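import Cfsg.Agent.INV.CG.Model

/-! # CG/MA : generators, orbits and isometries of the model (all finite checks over `F4`) -/

set_option autoImplicit false
open Equiv

namespace CL.CG

def s1 : Perm (Fin 8) := swap 3 4 * swap 5 6
def s2 : Perm (Fin 8) := swap 3 5 * swap 4 6
def s3 : Perm (Fin 8) := swap 3 7 * swap 5 6
def s4 : Perm (Fin 8) := swap 0 7 * swap 1 2
def s5 : Perm (Fin 8) := swap 0 2 * swap 1 7

theorem mA_add (t : F4) (u v : V6) : mA t (u + v) = mA t u + mA t v := by ext <;> simp [mA] <;> ring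
theorem mN_add (u v : V6) : mN (u + v) = mN u + mN v := by ext <;> simp [mN]
theorem mR_add (a μ : F4) (u v : V6) : mR a μ (u + v) = mR a μ u + mR a μ v := by
  ext <;> simp [mR] <;> ring

/-- `revert v; rw [V6.forall_iff]; decide +kernel` (or check on a basis: both sides are additive). -/
theorem al_gens (v : V6) : s1 • v = mA 1 v ∧ s2 • v = mA ω v ∧ s3 • v = mN v ∧ s4 • v = mR 1 1 v ∧
    s5 • v = mR ω (ω ^ 2) v := by
  have add : ∀ {f g : V6 → V6}, (∀ u v, f (u + v) = f u + f v) → (∀ u v, g (u + v) = g u + g v) →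
      (∀ x l' b, f ⟨x, l', b, 0, 0, 0⟩ = g ⟨x, l', b, 0, 0, 0⟩) →
      (∀ c d e, f ⟨0, 0, 0, c, d, e⟩ = g ⟨0, 0, 0, c, d, e⟩) → f v = g v := fun hf hg h1 h2 => by
    have : v = ⟨v.x, v.l, v.b, 0, 0, 0⟩ + ⟨0, 0, 0, v.c, v.d, v.e⟩ := by ext <;> simp
    rw [this, hf, hg, h1, h2]
  refine ⟨add (f := (s1 • ·)) (smul_add _) (mA_add _) ?_ ?_, add (f := (s2 • ·)) (smul_add _) (mA_add _) ?_ ?_,
    add (f := (s3 • ·)) (smul_add _) mN_add ?_ ?_, add (f := (s4 • ·)) (smul_add _) (mR_add _ _) ?_ ?_,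
    add (f := (s5 • ·)) (smul_add _) (mR_add _ _) ?_ ?_⟩ <;> decide +kernel

namespace MA

def gn : Fin 5 → Perm (Fin 8) := ![s1, s2, s3, s4, s5]
def mp : Fin 5 → V6 → V6 := ![mA 1, mA ω, mN, mR 1 1, mR ω (ω ^ 2)]
def ev (w : List (Fin 5)) : Perm (Fin 8) := w.foldr (fun i σ => gn i * σ) 1
def run (w : List (Fin 5)) (v : V6) : V6 := w.foldr mp v

theorem gn_smul (i : Fin 5) (v : V6) : gn i • v = mp i v := by
  obtain ⟨h1, h2, h3, h4, h5⟩ := al_gens v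
  fin_cases i
  exacts [h1, h2, h3, h4, h5]

theorem ev_smul (w : List (Fin 5)) (v : V6) : ev w • v = run w v := by
  induction w with
  | nil => exact one_smul _ _
  | cons i w ih =>
    change (gn i * ev w) • v = mp i (run w v)
    rw [mul_smul, ih, gn_smul]

theorem ev_mem_cl (w : List (Fin 5)) : ev w ∈ Subgroup.closure {s1, s2, s3, s4, s5} := by
  induction w with
  | nil => exact one_mem _
  | cons i w ih =>
    refine mul_mem (Subgroup.subset_closure ?_) ih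
    fin_cases i <;> simp [gn]

theorem ss_mem {a b c d : Fin 8} (h : a ≠ b) (h' : c ≠ d) : swap a b * swap c d ∈ A8 := by
  rw [Perm.mem_alternatingGroup, Perm.sign_mul, Perm.sign_swap h, Perm.sign_swap h']; rfl

theorem cl_le : Subgroup.closure {s1, s2, s3, s4, s5} ≤ A8 := by
  rw [Subgroup.closure_le]
  rintro _ (rfl | rfl | rfl | rfl | rfl) <;> exact ss_mem (by decide) (by decide)

theorem ev_mem (w : List (Fin 5)) : ev w ∈ A8 := cl_le (ev_mem_cl w)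

theorem exA (t : F4) : ∃ σ ∈ A8, ∀ v, σ • v = mA t v := by
  rcases f4_cases t with rfl | rfl | rfl | rfl
  · exact ⟨1, one_mem _, fun v => by rw [one_smul]; ext <;> simp [mA]⟩
  · exact ⟨ev [0], ev_mem _, ev_smul _⟩
  · exact ⟨ev [1], ev_mem _, ev_smul _⟩
  · refine ⟨ev [0, 1], ev_mem _, fun v => (ev_smul _ _).trans ?_⟩
    change mA 1 (mA ω v) = _
    have h2 := f4_two
    have h3 := ω_sq
    ext <;> simp [mA] <;> grind

theorem exR (a : F4) : ∃ σ ∈ A8, ∀ v, σ • v = mR a (a ^ 2) v := by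
  rcases f4_cases a with rfl | rfl | rfl | rfl
  · exact ⟨1, one_mem _, fun v => by rw [one_smul]; ext <;> simp [mR]⟩
  · exact ⟨ev [3], ev_mem _, fun v => by rw [one_pow]; exact ev_smul _ _⟩
  · exact ⟨ev [4], ev_mem _, ev_smul _⟩
  · refine ⟨ev [3, 4], ev_mem _, fun v => (ev_smul _ _).trans ?_⟩
    change mR 1 1 (mR ω (ω ^ 2) v) = _
    have h2 := f4_two
    have h3 := ω_sq
    ext <;> simp [mR] <;> grind

theorem exN : ∃ σ ∈ A8, ∀ v, σ • v = mN v := ⟨ev [2], ev_mem _, ev_smul _⟩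

theorem red1 {v : V6} (h0 : v ≠ 0) :
    ∃ σ ∈ A8, (σ • v).b ≠ 0 ∧ (v.x = 0 → v.l = 0 → (σ • v).x = 0 ∧ (σ • v).l = 0) := by
  obtain ⟨n, hn, en⟩ := exN
  by_cases hb : v.b = 0
  swap
  · exact ⟨1, one_mem _, by rwa [one_smul], fun h h' => by rw [one_smul]; exact ⟨h, h'⟩⟩
  by_cases h1 : v.c = 0 ∧ v.d = 0 ∧ v.e = 0
  · have k : ∀ x l' : F4, ¬(x = 0 ∧ l' = 0) → ∃ a : F4, x * a + l' * a ^ 2 ≠ 0 := by decide
    have h2 : ¬(v.x = 0 ∧ v.l = 0) := fun h => h0 (by ext <;> simp [h.1, h.2, h1.1, h1.2.1, h1.2.2, hb])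
    obtain ⟨a, ha⟩ := k _ _ h2
    obtain ⟨r, hr, er⟩ := exR a
    refine ⟨n * r, mul_mem hn hr, ?_, fun h h' => absurd ⟨h, h'⟩ h2⟩
    rw [mul_smul, er, en]; simpa [mN, mR, hb, h1.2.2] using ha
  · have k : ∀ c d e : F4, ¬(c = 0 ∧ d = 0 ∧ e = 0) → ∃ t : F4, e + t ^ 2 * c + t * d ≠ 0 := by decide
    obtain ⟨t, ht⟩ := k _ _ _ h1
    obtain ⟨r, hr, er⟩ := exA t
    refine ⟨n * r, mul_mem hn hr, ?_, fun h h' => ?_⟩
    · rw [mul_smul, er, en]; simpa [mN, mA, hb] using ht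
    · rw [mul_smul, er, en]; exact ⟨h, h'⟩

theorem red2 {w : V6} (hb : w.b ≠ 0) (hQ : Qf w = 0) :
    ∃ σ ∈ A8, ∃ x d, σ • w = ⟨x, 0, w.b, 0, d, 0⟩ ∧ (w.x = 0 → w.l = 0 → x = 0) := by
  obtain ⟨r, hr, er⟩ := exR (w.l / w.b)
  obtain ⟨s, hs, es⟩ := exA (w.c / w.b)
  have e1 : ((s * r) • w).l = 0 := by
    rw [mul_smul, er, es]; simp [mA, mR, mul_div_cancel₀ _ hb, f4_add_self]
  have e2 : ((s * r) • w).c = 0 := by
    rw [mul_smul, er, es]; simp [mA, mR, div_mul_cancel₀ _ hb, f4_add_self]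
  have e3 : ((s * r) • w).b = w.b := by rw [mul_smul, er, es]; rfl
  have e4 : ((s * r) • w).e = 0 := by
    have := Qf_al (s * r) w
    rw [hQ, Qf, e1, e2, e3] at this
    simpa [hb] using this
  refine ⟨s * r, mul_mem hs hr, ((s * r) • w).x, ((s * r) • w).d, by ext <;> simp [*], fun h h' => ?_⟩
  rw [mul_smul, er, es]; simp [mA, mR, h, h']

def tb : List (List (Fin 5)) :=
  [[3, 2], [2, 4, 2], [2, 4, 3, 2], [4, 2, 4, 3, 2, 3], [4, 3, 2, 4, 2, 3], [4, 2, 3, 2, 4, 3],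
  [3, 2, 4, 2, 4, 3], [4, 3, 2, 3, 2, 4], [3, 2, 4, 3, 2, 4], [4, 0, 2, 3, 1, 2, 4, 0], [3, 1, 2, 4, 1, 2, 3, 1],
  [3, 1, 2, 4, 3, 0, 2, 3, 1], [3, 1, 2, 4, 0, 2, 1, 2, 3], [4, 1, 2, 1, 2, 3, 2, 4, 1, 0],
  [3, 0, 2, 4, 1, 0, 2, 3, 2, 0], [0, 2, 4, 2, 3, 1, 2, 4, 2, 0], [1, 2, 1, 0], [1, 0, 2, 1], [1, 2, 1, 2, 0],
  [0, 2, 1, 2, 1], [0, 2, 1, 0, 2, 1, 0], [1, 0, 2, 1, 0, 2, 0], [4, 2, 3, 0, 2, 4, 1], [1, 2, 4, 0, 2, 3, 1, 0],
  [3, 2, 4, 1, 0, 2, 3, 0], [2, 4, 2, 3, 2, 4, 3, 1], [2, 4, 2, 4, 3, 1, 2, 3], [2, 4, 2, 3, 1, 2, 4, 3],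
  [2, 1, 2, 4, 2, 3, 1, 2, 1], [0, 2, 1, 2, 4, 0, 2, 3, 1]]

theorem red3 : ∀ x b d : F4, b ≠ 0 → ∃ w ∈ tb, run w ⟨x, 0, b, 0, d, 0⟩ = eR ∨
    (x ≠ 0 ∧ run w ⟨x, 0, b, 0, d, 0⟩ = eR + ed) ∨ ∃ t : F4, t ≠ 0 ∧ run w ⟨x, 0, b, 0, d, 0⟩ = t • ee := by
  decide +kernel

theorem orb {v : V6} (h0 : v ≠ 0) (h : Qf v = 0) : ∃ σ ∈ A8, σ • v = eR ∨
    (¬(v.x = 0 ∧ v.l = 0) ∧ σ • v = eR + ed) ∨ ∃ t : F4, t ≠ 0 ∧ σ • v = t • ee := by
  obtain ⟨σ, hσ, hb, h1⟩ := red1 h0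
  obtain ⟨τ, hτ, x, d, e, h2⟩ := red2 hb ((Qf_al _ _).trans h)
  obtain ⟨w, -, hw⟩ := red3 x _ d hb
  refine ⟨ev w * τ * σ, mul_mem (mul_mem (ev_mem w) hτ) hσ, ?_⟩
  rw [mul_smul, mul_smul, e, ev_smul]
  rcases hw with hw | ⟨hx, hw⟩ | hw
  · exact .inl hw
  · exact .inr (.inl ⟨fun q => hx (h2 (h1 q.1 q.2).1 (h1 q.1 q.2).2), hw⟩)
  · exact .inr (.inr hw)

def st (μ : F4 → F4) (s : Fin 3 × F4) (v : V6) : V6 :=
  if s.1 = 0 then mA s.2 v else if s.1 = 1 then mN v else mR s.2 (μ s.2) v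

def mu (m1 m2 a : F4) : F4 := if a = 0 then 0 else if a = 1 then m1 else if a = ω then m2 else m2 + m1

def tw : List (List (Fin 3 × F4)) :=
  [[(0, 1), (1, 0), (2, ω), (0, ω ^ 2), (1, 0), (2, ω), (1, 0), (2, ω), (0, 1), (1, 0), (2, ω)],
  [(0, 1), (1, 0), (2, ω), (0, ω), (1, 0), (2, ω), (1, 0), (2, ω), (0, 1), (1, 0), (2, ω)],
  [(0, 1), (1, 0), (2, ω ^ 2), (0, ω ^ 2), (1, 0), (2, ω ^ 2), (1, 0), (2, ω ^ 2), (0, 1), (1, 0), (2, ω ^ 2)],
  [(0, 1), (1, 0), (2, ω ^ 2), (0, ω), (1, 0), (2, ω ^ 2), (1, 0), (2, ω ^ 2), (0, 1), (1, 0), (2, ω ^ 2)],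
  [(0, 1), (1, 0), (2, ω ^ 2), (0, ω ^ 2), (1, 0), (2, ω), (0, 1), (1, 0), (2, 1)],
  [(0, 1), (1, 0), (2, 1), (0, ω ^ 2), (1, 0), (2, 1), (1, 0), (2, 1), (0, 1), (1, 0), (2, 1)],
  [(0, 1), (1, 0), (2, 1), (0, ω), (1, 0), (2, 1), (1, 0), (2, 1), (0, 1), (1, 0), (2, 1)]]

theorem tw_ok : ∀ m1 m2 : F4, (∀ a, mu m1 m2 a = a ^ 2) ∨
    ∃ w ∈ tw, ∃ t : F4, t ≠ 0 ∧ w.foldr (st (mu m1 m2)) eR = eR + t • ed := by
  decide +kernel

theorem Bf_of {g : V6 → V6} (ha : ∀ u v, g (u + v) = g u + g v) (hQ : ∀ v, Qf (g v) = Qf v) (u v : V6) :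
    Bf (g u) (g v) = Bf u v := by rw [Bf_eq, Bf_eq, ← ha, hQ, hQ, hQ]

theorem surj {g : V6 → V6} (hB : ∀ u v, Bf (g u) (g v) = Bf u v) : Function.Surjective g := by
  refine Finite.surjective_of_injective fun u v h => V6.add_eq_zero.1 (eq_zero_of_Bf fun y => ?_)
  rw [Bf_add_left, ← hB u, ← hB v, h, f4_add_self]

end MA
open MA

/-- `s1,s2,s3` generate `A₅` on `{3,..,7}`; `s3 s1`, ... give 3-cycles; use
`Equiv.Perm.closure_three_cycles_eq_alternating` / `IsThreeCycle.alternating_normalClosure`, or: the 3-cycles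
`(3 4 k)`, `k ≠ 3, 4`, generate `A₈` (find words with python), or an orbit-stabiliser chain. -/
theorem closure_gens : Subgroup.closure {s1, s2, s3, s4, s5} = A8 := by
  refine le_antisymm cl_le ?_
  rw [A8, ← Perm.closure_three_cycles_eq_alternating, Subgroup.closure_le]
  set H := Subgroup.closure {s1, s2, s3, s4, s5}
  have cj : ∀ (w : List (Fin 5)) (a b c : Fin 8), swap (ev w a) (ev w b) * swap (ev w a) (ev w c) ∈ H →
      swap a b * swap a c ∈ H := fun w a b c h => by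
    have e : swap a b * swap a c = (ev w)⁻¹ * (swap (ev w a) (ev w b) * swap (ev w a) (ev w c)) * ev w := by
      rw [swap_apply_apply, swap_apply_apply]; group
    rw [e]; exact mul_mem (mul_mem (inv_mem (ev_mem_cl w)) h) (ev_mem_cl w)
  have h0 : swap 3 4 * swap 3 5 ∈ H := by
    have : swap 3 4 * swap 3 5 = ev [0, 2, 1, 2, 1, 0, 2] := by decide +kernel
    rw [this]; exact ev_mem_cl _
  have t3 : ∀ c : Fin 8, c ≠ 3 → c ≠ 4 → ∃ w ∈ [[1, 2, 3, 1, 0], [1, 2, 4, 1, 0], [1, 2, 4, 3, 1, 0], [],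
      [1, 0, 2, 1], [1, 2, 1, 0]], ev w 3 = 3 ∧ ev w 4 = 4 ∧ ev w c = 5 := by decide +kernel
  have t2 : ∀ b : Fin 8, b ≠ 3 → ∃ w ∈ [[0, 2, 3, 0], [0, 2, 4, 0], [0, 2, 4, 3, 0], [], [2, 1, 2],
      [2, 1, 0, 2], [0, 2, 0]], ev w 3 = 3 ∧ ev w b = 4 := by decide +kernel
  have t1 : ∀ a : Fin 8, ∃ w ∈ [[2, 3], [2, 4], [2, 4, 3], [], [0], [1], [1, 0], [2]], ev w a = 3 := by
    decide +kernel
  have h3 : ∀ c : Fin 8, c ≠ 3 → c ≠ 4 → swap 3 4 * swap 3 c ∈ H := fun c h h' => by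
    obtain ⟨w, -, e1, e2, e3⟩ := t3 c h h'
    exact cj w _ _ _ (by rwa [e1, e2, e3])
  have h2 : ∀ b c : Fin 8, b ≠ 3 → c ≠ 3 → c ≠ b → swap 3 b * swap 3 c ∈ H := fun b c h h' h'' => by
    obtain ⟨w, -, e1, e2⟩ := t2 b h
    refine cj w _ _ _ ?_
    rw [e1, e2]
    exact h3 _ (fun q => h' ((ev w).injective (q.trans e1.symm))) fun q => h'' ((ev w).injective (q.trans e2.symm))
  have h1 : ∀ a b c : Fin 8, b ≠ a → c ≠ a → c ≠ b → swap a b * swap a c ∈ H := fun a b c h h' h'' => by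
    obtain ⟨w, -, e1⟩ := t1 a
    refine cj w _ _ _ ?_
    rw [e1]
    exact h2 _ _ (fun q => h ((ev w).injective (q.trans e1.symm)))
      (fun q => h' ((ev w).injective (q.trans e1.symm))) ((ev w).injective.ne h'')
  intro σ hσ
  have hc : (swap (0 : Fin 8) 1 * swap 0 2).IsThreeCycle :=
    Perm.isThreeCycle_swap_mul_swap_same (by decide) (by decide) (by decide)
  obtain ⟨τ, rfl⟩ := isConj_iff.1 (Perm.isConj_iff_cycleType_eq.2 (hc.cycleType.trans hσ.cycleType.symm))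
  have e : τ * (swap 0 1 * swap 0 2) * τ⁻¹ = swap (τ 0) (τ 1) * swap (τ 0) (τ 2) := by
    rw [swap_apply_apply, swap_apply_apply]; group
  rw [e]
  exact h1 _ _ _ (τ.injective.ne (by decide)) (τ.injective.ne (by decide)) (τ.injective.ne (by decide))

/-- The orbits of `A₈` on singular vectors: 336, 630, 3 × 35.  Proof: a height table `ht : V6 → ℕ`
(BFS distance ≤ 10 from the representatives under `mA 1, mA ω, mN, mR 1 1, mR ω ω²`, stored in one `Nat`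
literal), check by `decide +kernel` that a singular non-representative has a generator lowering `ht`.
Or argue on the shape of `sec v` (value multiplicities) . -/
theorem orbits {v : V6} (h0 : v ≠ 0) (h : Qf v = 0) :
    ∃ σ ∈ A8, σ • v = eR ∨ σ • v = eR + ed ∨ ∃ t : F4, t ≠ 0 ∧ σ • v = t • ee := by
  obtain ⟨σ, hσ, h1 | h1 | h1⟩ := orb h0 h
  exacts [⟨σ, hσ, .inl h1⟩, ⟨σ, hσ, .inr (.inl h1.2)⟩, ⟨σ, hσ, .inr (.inr h1)⟩]

/-- The permutation with value list `![4,5,6,0,1,2,3,7]` (a 7-cycle) does it. -/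
theorem eR_ed : ∃ σ ∈ A8, σ • eR = ed := by
  exact ⟨ev [1, 2, 3, 0, 2, 4, 1, 2, 3], ev_mem _, (ev_smul _ _).trans (by decide +kernel)⟩

/-- `L = ⟨mA t, mN⟩` and scalars: a singular vector of `⟨b,c,d,e⟩` is long or short. -/
theorem orbits_P {v : V6} (h0 : v ≠ 0) (h : Qf v = 0) (hx : v.x = 0) (hl : v.l = 0) :
    ∃ σ ∈ A8, σ • v = eR ∨ ∃ t : F4, t ≠ 0 ∧ σ • v = t • ee := by
  obtain ⟨σ, hσ, h1 | h1 | h1⟩ := orb h0 h
  exacts [⟨σ, hσ, .inl h1⟩, absurd ⟨hx, hl⟩ h1.1, ⟨σ, hσ, .inr h1⟩]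

/-- Bad words (maps applied left to right to `eR`; `A0 = mA 1, A1 = mA ω, A2 = mA ω², N = mN, R = mR l (μ l)`):
if `μ l ∉ {0, l²}` then `R N A0 R N R N Ai R N A0` gives `eR + t • ed`, `t ≠ 0`, with `i = 2` for
`(l, μ l) = (1, ω), (ω, 1), (ω², ω²)` and `i = 1` for `(1, ω²), (ω, ω), (ω², 1)`.  Otherwise additivity of
`μ` gives `μ = (· ^ 2)` or `μ = 0`, and for `μ = 0` the word `R₁ N A0 R_ω N A2 R_{ω²} N A0` gives
`eR + ω² • ed`. -/
theorem bad {D : Set V6} {μ : F4 → F4} (hμ : ∀ a b, μ (a + b) = μ a + μ b) (h0 : eR ∈ D)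
    (hA : ∀ t, ∀ v ∈ D, mA t v ∈ D) (hN : ∀ v ∈ D, mN v ∈ D) (hR : ∀ a, ∀ v ∈ D, mR a (μ a) v ∈ D)
    (hb : ∀ t : F4, t ≠ 0 → eR + t • ed ∉ D) (a : F4) : μ a = a ^ 2 := by
  have e : μ = mu (μ 1) (μ ω) := by
    have z : μ 0 = 0 := by simpa using hμ 0 0
    funext s
    rcases f4_cases s with rfl | rfl | rfl | rfl
    · exact z
    · rfl
    · rfl
    · rw [ω_sq, hμ]; rfl
  have hw : ∀ w : List (Fin 3 × F4), w.foldr (st μ) eR ∈ D := fun w => by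
    induction w with
    | nil => exact h0
    | cons s w ih =>
      rw [List.foldr_cons, st]
      split_ifs
      exacts [hA _ _ ih, hN _ ih, hR _ _ ih]
  rcases tw_ok (μ 1) (μ ω) with h | ⟨w, -, t, ht, h⟩
  · rw [e]; exact h a
  · rw [← e] at h
    exact absurd (h ▸ hw w) (hb t ht)

/-- An additive surjection multiplying `Bf` through `θ` is semilinear:
`Bf (g (ω v)) (g y) = θ (ω Bf v y) = κ Bf (g v) (g y)`, and `eq_zero_of_Bf`. -/
theorem semilin {g : V6 → V6} (hs : Function.Surjective g) {θ : F4 → F4} {κ : F4}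
    (hθ : ∀ s, θ (ω * s) = κ * θ s) (hB : ∀ u v, Bf (g u) (g v) = θ (Bf u v)) (v : V6) :
    g (ω • v) = κ • g v := by
  refine V6.add_eq_zero.1 (eq_zero_of_Bf fun y => ?_)
  obtain ⟨y, rfl⟩ := hs y
  rw [Bf_add_left, Bf_smul_left, hB, hB, Bf_smul_left, hθ, f4_add_self]

/-- An additive map preserving `Qf` is linear (it preserves `Bf`, so is injective, so surjective). -/
theorem lin_of_iso {g : V6 → V6} (ha : ∀ u v, g (u + v) = g u + g v) (hQ : ∀ v, Qf (g v) = Qf v)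
    (t : F4) (v : V6) : g (t • v) = t • g v := by
  have hB := Bf_of ha hQ
  have h := semilin (surj hB) (θ := id) (κ := ω) (fun _ => rfl) hB
  rcases f4_cases t with rfl | rfl | rfl | rfl
  · have := ha 0 0
    rw [add_zero, V6.add_self] at this
    rw [zero_smul, zero_smul, this]
  · rw [one_smul, one_smul]
  · exact h v
  · rw [sq, mul_smul, mul_smul, h, h]

/-- An isometry fixing `y^⊥` pointwise (`y ≠ 0` singular) is trivial: `g v + v ⊥ y^⊥`, so `g v = v + c y`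
and `Qf` gives `c * Bf v y = 0`.  (`y^⊥⊥ = F4 y`: if `Bf u` vanishes on `ker (Bf y)` pick `p` with
`Bf y p = 1`; `u + Bf u p • y` is orthogonal to everything.) -/
theorem iso_eq {g : V6 → V6} (ha : ∀ u v, g (u + v) = g u + g v) (hQ : ∀ v, Qf (g v) = Qf v)
    {y : V6} (h0 : y ≠ 0) (hy : Qf y = 0) (hf : ∀ v, Bf v y = 0 → g v = v) (v : V6) : g v = v := by
  have hB := Bf_of ha hQ
  obtain ⟨p, hp⟩ := exists_Bf h0 1
  have h1 : ∀ w, Bf w y = 0 → Bf (g v + v) w = 0 := fun w hw => by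
    rw [Bf_add_left]
    nth_rw 1 [← hf w hw]
    rw [hB, f4_add_self]
  have h2 : g v + v = Bf (g v + v) p • y := by
    refine V6.add_eq_zero.1 (eq_zero_of_Bf fun w => ?_)
    have k := h1 (w + Bf y w • p) (by
      rw [Bf_add_left, Bf_smul_left, Bf_comm p, hp, mul_one, Bf_comm, f4_add_self])
    rw [Bf_add_right, Bf_smul_right] at k
    rw [Bf_add_left, Bf_smul_left, mul_comm]; exact k
  generalize Bf (g v + v) p = c at h2
  have h3 : g v = v + c • y := by rw [← h2, add_comm (g v), ← add_assoc, V6.add_self, zero_add]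
  have h4 := hQ v
  rw [h3, Qf_add, Qf_smul, hy, Bf_smul_right, mul_zero, add_zero, add_eq_left, mul_eq_zero] at h4
  rcases h4 with h4 | h4
  · rw [h3, h4, zero_smul, add_zero]
  · exact hf v h4

/-- The action of `n_b f(a) n_b`.  `g` preserves the polar form `Bf`, so is linear (`semilin`, `θ = id`);
comparing `v` and `ω v` gives `Qf ∘ g = Qf` and `s * (g v).l = s * v.l`; `v = eb` gives `s = 0`.
Then `g eb = eb + a eF + μ eR + * ee`, `g eF = eF + μ ee` are forced by the form. -/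
theorem eq_mR {g : V6 → V6} (ha : ∀ u v, g (u + v) = g u + g v) {s a : F4} (a0 : a ≠ 0)
    (hQ : ∀ v, Qf (g v) + s * (g v).l = Qf v + s * v.l)
    (h1 : ∀ v : V6, v.x = 0 → v.l = 0 → v.b = 0 → g v = v) (h2 : ∀ x : F4, g (x • eR) = x • eR + (a * x) • ee)
    (h3 : (g eb).l = a) : s = 0 ∧ ∃ μ, ∀ v, g v = mR a μ v := by
  have h22 := f4_two
  have hB : ∀ u v, Bf (g u) (g v) = Bf u v := fun u v => by
    have k := hQ (u + v)
    rw [ha, Qf_add, Qf_add, V6.add_l, V6.add_l] at k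
    linear_combination k - hQ u - hQ v
  have hω := semilin (surj hB) (θ := id) (κ := ω) (fun _ => rfl) hB
  have hs : s = 0 := by
    have k := hQ (ω • eb)
    have k' := hQ eb
    rw [hω, Qf_smul, Qf_smul, V6.smul_l, V6.smul_l, h3] at k
    rw [h3] at k'
    have e0 : eb.l = 0 := rfl
    rw [e0] at k k'
    have : s * a = 0 := by
      have h3 := ω_sq
      grind
    exact (mul_eq_zero.1 this).resolve_right a0
  subst hs
  simp only [zero_mul, add_zero] at hQ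
  refine ⟨rfl, (g eb).x, fun v => ?_⟩
  have hl := lin_of_iso ha hQ
  have gc : g ec = ec := h1 _ rfl rfl rfl
  have gd : g ed = ed := h1 _ rfl rfl rfl
  have ge : g ee = ee := h1 _ rfl rfl rfl
  have gR : g eR = eR + a • ee := by simpa using h2 1
  have w1 := hB eb ec; have w2 := hB eb ed; have w3 := hB eb ee; have w4 := hQ eb
  have u1 := hB eF ec; have u2 := hB eF ed; have u3 := hB eF ee; have u4 := hQ eF
  have u5 := hB eF eR; have u6 := hB eF eb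
  rw [gc] at w1 u1; rw [gd] at w2 u2; rw [ge] at w3 u3; rw [gR] at u5
  have e : v = v.x • eR + v.l • eF + v.b • eb + v.c • ec + v.d • ed + v.e • ee := by
    ext <;> simp [eR, eF, eb, ec, ed, ee]
  have e' : g v = v.x • (eR + a • ee) + v.l • g eF + v.b • g eb + v.c • ec + v.d • ed + v.e • ee := by
    conv_lhs => rw [e]
    simp only [ha, hl, gc, gd, ge, gR]
  rw [e']
  generalize g eb = w at *
  generalize g eF = u at *
  simp [Bf, Qf, eR, eF, eb, ec, ed, ee] at w1 w2 w3 w4 u1 u2 u3 u4 u5 u6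
  ext <;> simp [mR, eR, ec, ed, ee] <;> grind

end CL.CG
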