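import Cfsg.Agent.INV.CG.Model

/-! # CG/MC : the `F₂`-form `O6` (finite checks) -/

set_option autoImplicit false
set_option linter.unusedVariables false
open Equiv

namespace CL.CG

/-- `(O6 ∩ e^⊥) + F4 e` -/
def J0 (y : V6) : Prop := y.b = 0 ∧ y.l = y.x ^ 2 ∧ y.d = y.c ^ 2

instance : DecidablePred J0 := fun _ => inferInstanceAs (Decidable (_ ∧ _))

theorem swap_swap_mem {a b c d : Fin 8} (h : a ≠ b) (h' : c ≠ d) : swap a b * swap c d ∈ A8 := by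
  rw [Perm.mem_alternatingGroup, Perm.sign_mul, Perm.sign_swap h, Perm.sign_swap h']; rfl

theorem card_J0 : Nat.card {y // J0 y} = 64 := by
  have e : {y // J0 y} ≃ F4 × F4 × F4 :=
    { toFun := fun y => (y.1.x, y.1.c, y.1.e)
      invFun := fun p => ⟨⟨p.1, p.1 ^ 2, 0, p.2.1, p.2.1 ^ 2, p.2.2⟩, rfl, rfl, rfl⟩
      left_inv := fun ⟨y, h1, h2, h3⟩ => by ext <;> simp [h1, h2, h3]
      right_inv := fun _ => rfl }
  rw [Nat.card_congr e]; simp [Nat.card_eq_fintype_card, F4.card_eq]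

theorem card_O6 : Nat.card {y // fr y = y} = 64 := by
  have h4 : ∀ a : F4, (a ^ 2) ^ 2 = a := by decide
  have e : {y // fr y = y} ≃ F4 × F4 × {a : F4 // a ^ 2 = a} × {a : F4 // a ^ 2 = a} :=
    { toFun := fun y => (y.1.x, y.1.c, ⟨y.1.b, congrArg V6.b y.2⟩, ⟨y.1.e, congrArg V6.e y.2⟩)
      invFun := fun p => ⟨⟨p.1, p.1 ^ 2, p.2.2.1.1, p.2.1, p.2.1 ^ 2, p.2.2.2.1⟩, by
        ext <;> simp [fr, h4, p.2.2.1.2, p.2.2.2.2]⟩
      left_inv := fun ⟨y, h⟩ => by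
        have h1 : y.x ^ 2 = y.l := congrArg V6.l h
        have h2 : y.c ^ 2 = y.d := congrArg V6.d h
        ext <;> simp [h1, h2]
      right_inv := fun _ => rfl }
  have h2 : Nat.card {a : F4 // a ^ 2 = a} = 2 := by rw [Nat.card_eq_fintype_card]; decide
  rw [Nat.card_congr e, Nat.card_prod, Nat.card_prod, Nat.card_prod, h2, f4_card]

theorem card_b0 : Nat.card {y : V6 // y.b = 0} = 1024 := by
  have e : {y : V6 // y.b = 0} ≃ F4 × F4 × F4 × F4 × F4 :=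
    { toFun := fun y => (y.1.x, y.1.l, y.1.c, y.1.d, y.1.e)
      invFun := fun p => ⟨⟨p.1, p.2.1, 0, p.2.2.1, p.2.2.2.1, p.2.2.2.2⟩, rfl⟩
      left_inv := fun ⟨y, h1⟩ => by ext <;> simp [h1]
      right_inv := fun _ => rfl }
  rw [Nat.card_congr e]; simp [Nat.card_eq_fintype_card, F4.card_eq]

/-- Four elements of the stabiliser suffice (as value lists `i ↦ σ i`): `![0,1,7,3,4,6,5,2]`,
`![0,2,1,3,4,6,5,7]`, `![0,7,2,3,4,6,5,1]`, `![0,1,7,3,5,4,6,2]`, i.e. `(2 7)(5 6)`, `(1 2)(5 6)`,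
`(1 7)(5 6)`, `(2 7)(4 5)`. -/
theorem m1e {y : V6} (hb : y.b = 0) (hQ : Qf y = 0 ∨ Qf y = 1)
    (h : ∀ σ ∈ A8, σ • ee = ee → Bf y (σ • y) = 0 ∨ Bf y (σ • y) = 1) : J0 y := by
  have h1 := h (swap 2 7 * swap 5 6) (swap_swap_mem (by decide) (by decide)) (by decide +kernel)
  have h2 := h (swap 1 2 * swap 5 6) (swap_swap_mem (by decide) (by decide)) (by decide +kernel)
  have h3 := h (swap 1 7 * swap 5 6) (swap_swap_mem (by decide) (by decide)) (by decide +kernel)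
  have h4 := h (swap 2 7 * swap 4 5) (swap_swap_mem (by decide) (by decide)) (by decide +kernel)
  clear h
  obtain ⟨x, l', b, c, d, e⟩ := y
  simp only at hb
  subst hb
  revert x l' c d e
  decide +kernel

/-- Seven elements suffice (value lists): `![5,4,7,3,2,1,0,6]`, `![2,5,7,3,4,0,6,1]`, `![5,1,0,7,2,4,6,3]`,
`![3,2,6,7,4,1,0,5]`, `![5,1,7,6,0,2,4,3]`, `![1,6,0,5,4,7,3,2]`, `![4,5,6,3,0,2,1,7]`
(3-cycles or double transpositions probably do as well). -/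
theorem m1 {y : V6} (hQ : Qf y = 0 ∨ Qf y = 1)
    (h : ∀ σ ∈ A8, Bf y (σ • y) = 0 ∨ Bf y (σ • y) = 1) : fr y = y := by
  have h0 := h (swap 0 1 * swap 2 3) (swap_swap_mem (by decide) (by decide))
  have h1 := h (swap 0 1 * swap 2 4) (swap_swap_mem (by decide) (by decide))
  have h2 := h (swap 0 1 * swap 2 5) (swap_swap_mem (by decide) (by decide))
  have h3 := h (swap 0 1 * swap 2 6) (swap_swap_mem (by decide) (by decide))
  have h4 := h (swap 0 1 * swap 3 4) (swap_swap_mem (by decide) (by decide))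
  have h5 := h (swap 0 2 * swap 3 4) (swap_swap_mem (by decide) (by decide))
  clear h
  revert y; rw [V6.forall_iff]; decide +kernel

/-- `η = (1 2 7)(4 5 6)`. -/
theorem eta : ∃ η ∈ A8, η • ee = ee ∧ ∀ y, fr y = y → y.b = 0 →
    ∃ y', fr y' = y' ∧ y'.b = 0 ∧ (y = η • y' + y' ∨ y = η • y' + y' + ee) := by
  refine ⟨swap 1 7 * swap 1 2 * (swap 4 6 * swap 4 5), Subgroup.mul_mem _
    (swap_swap_mem (by decide) (by decide)) (swap_swap_mem (by decide) (by decide)),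
    by decide +kernel, fun y hy hb => ?_⟩
  have key : ∀ x c e : F4, e ^ 2 = e → ∃ x' c' e' : F4, e' ^ 2 = e' ∧
      ((⟨x, x ^ 2, 0, c, c ^ 2, e⟩ : V6) = (swap 1 7 * swap 1 2 * (swap 4 6 * swap 4 5) : Perm (Fin 8)) •
        (⟨x', x' ^ 2, 0, c', c' ^ 2, e'⟩ : V6) + ⟨x', x' ^ 2, 0, c', c' ^ 2, e'⟩ ∨
      (⟨x, x ^ 2, 0, c, c ^ 2, e⟩ : V6) = (swap 1 7 * swap 1 2 * (swap 4 6 * swap 4 5) : Perm (Fin 8)) •
        (⟨x', x' ^ 2, 0, c', c' ^ 2, e'⟩ : V6) + ⟨x', x' ^ 2, 0, c', c' ^ 2, e'⟩ + ee) := by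
    decide +kernel
  have h4 : ∀ a : F4, (a ^ 2) ^ 2 = a := by decide
  have h1 : y.x ^ 2 = y.l := congrArg V6.l hy
  have h2 : y.c ^ 2 = y.d := congrArg V6.d hy
  obtain ⟨x', c', e', he, h⟩ := key y.x y.c y.e (congrArg V6.e hy)
  refine ⟨⟨x', x' ^ 2, 0, c', c' ^ 2, e'⟩, by ext <;> simp [fr, h4, he], rfl, ?_⟩
  have : y = ⟨y.x, y.x ^ 2, 0, y.c, y.c ^ 2, y.e⟩ := by ext <;> simp [h1, h2, hb]
  rw [this]; exact h

/-- `σ = (3 7)(5 6)`. -/
theorem ee_move : ∃ σ ∈ A8, Bf ee (σ • ee) = 1 := by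
  exact ⟨swap 3 7 * swap 5 6, swap_swap_mem (by decide) (by decide), by decide +kernel⟩

/-- `Bf (fr y) v = Bf y v ^ 2 = Bf y v` for `v ∈ O6`, so `fr y + y ⊥ O6`, so `⊥ V6` (`exists_O6`). -/
theorem O6_of_Bf {y : V6} (h : ∀ v, fr v = v → Bf y v = 0 ∨ Bf y v = 1) : fr y = y := by
  have key : ∀ v, fr v = v → Bf (fr y + y) v = 0 := fun v hv => by
    have h1 : Bf (fr y) v = Bf y v ^ 2 := by rw [← Bf_fr, hv]
    rw [Bf_add_left, h1, f4_sq_eq.2 (h v hv), f4_add_self]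
  refine V6.add_eq_zero.1 (eq_zero_of_Bf fun v => ?_)
  obtain ⟨u, u', hu, hu', rfl⟩ := exists_O6 v
  rw [Bf_add_right, Bf_smul_right, key u hu, key u' hu', mul_zero, add_zero]

theorem eq_zero_of_Bf_O6 {y : V6} (h : ∀ v, fr v = v → Bf y v = 0) : y = 0 := by
  refine eq_zero_of_Bf fun v => ?_
  obtain ⟨u, u', hu, hu', rfl⟩ := exists_O6 v
  rw [Bf_add_right, Bf_smul_right, h u hu, h u' hu', mul_zero, add_zero]

/-- `J0` spans `e^⊥`. -/
theorem span_J0 {y : V6} (hb : y.b = 0) : ∃ u u', J0 u ∧ J0 u' ∧ y = u + ω • u' := by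
  obtain ⟨u, u', hu, hu', rfl⟩ := exists_O6 y
  have hb1 : u.b ^ 2 = u.b := congrArg V6.b hu
  have hb2 : u'.b ^ 2 = u'.b := congrArg V6.b hu'
  have key : ∀ a a' : F4, a ^ 2 = a → a' ^ 2 = a' → a + ω * a' = 0 → a = 0 ∧ a' = 0 := by decide
  obtain ⟨e1, e2⟩ := key _ _ hb1 hb2 hb
  exact ⟨u, u', ⟨e1, (congrArg V6.l hu).symm, (congrArg V6.d hu).symm⟩,
    ⟨e2, (congrArg V6.l hu').symm, (congrArg V6.d hu').symm⟩, rfl⟩

/-- An isometry of `O6` fixing `O6 ∩ e^⊥` pointwise is trivial: `g eb + eb ∈ O6` is orthogonal to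
`O6 ∩ e^⊥`, so is `0` or `ee`, and `Qf (eb + ee) = 1 ≠ Qf eb`. -/
theorem iso6 {g : V6 → V6} (ha : ∀ u v, g (u + v) = g u + g v) (h6 : ∀ v, fr v = v → fr (g v) = g v)
    (hQ : ∀ v, fr v = v → Qf (g v) = Qf v) (hf : ∀ v, fr v = v → v.b = 0 → g v = v) {v : V6}
    (hv : fr v = v) : g v = v := by
  have hB : ∀ u v, fr u = u → fr v = v → Bf (g u) (g v) = Bf u v := fun u v hu hv => by
    rw [Bf_eq, Bf_eq, ← ha, hQ _ hu, hQ _ hv, hQ _ (by rw [fr_add, hu, hv])]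
  have hb : fr eb = eb := by decide
  have h0 : g eb = eb := by
    have k : ∀ u, fr u = u → u.b = 0 → Bf (g eb) u = Bf eb u := fun u hu hu' => by
      rw [← hB _ _ hb hu, hf u hu hu']
    have k1 := k (eR + eF) (by decide) (by decide)
    have k2 := k (ω • eR + ω ^ 2 • eF) (by decide) (by decide)
    have k3 := k (ec + ed) (by decide) (by decide)
    have k4 := k (ω • ec + ω ^ 2 • ed) (by decide) (by decide)
    have k5 := k ee (by decide) (by decide)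
    have k6 := hQ _ hb
    generalize g eb = w at k1 k2 k3 k4 k5 k6
    revert w; rw [V6.forall_iff]; decide +kernel
  rcases f4_sq_eq.1 (show v.b ^ 2 = v.b from congrArg V6.b hv) with h | h
  · exact hf v hv h
  · have e : v = (v + eb) + eb := by rw [add_assoc, V6.add_self, add_zero]
    have h' : (v + eb).b = 0 := by simp [h, eb, f4_add_self]
    conv_lhs => rw [e, ha, h0, hf _ (by rw [fr_add, hv, hb]) h', ← e]

end CL.CG
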