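import Cfsg.Agent.SPOR.F4

/-!
# The `O₆⁺(4)`-module of `A₈` (for the standard subgroup `G₂(4)`, S1767)

`V6 = F4⁶` with the quadratic form `Qf = x l + b e + c d`; `S₈` acts by linear isometries
(`sec` identifies `V6` with the even part of the permutation module modulo constants);
`fr` is the semilinear involution with fixed points the `F₂`-form `O6`.
-/

set_option autoImplicit false

namespace CL.CG

/-- `ω` -/
abbrev ω : F4 := F4.w

theorem f4_add_self (a : F4) : a + a = 0 := by revert a; decide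
theorem f4_two : (2 : F4) = 0 := by decide
theorem f4_neg (a : F4) : -a = a := rfl
theorem f4_pow4 (a : F4) : a ^ 4 = a := by revert a; decide
theorem f4_cube {a : F4} (h : a ≠ 0) : a ^ 3 = 1 := by revert a; decide
theorem f4_cases (a : F4) : a = 0 ∨ a = 1 ∨ a = ω ∨ a = ω ^ 2 := by revert a; decide
theorem f4_sq_eq {a : F4} : a ^ 2 = a ↔ a = 0 ∨ a = 1 := by revert a; decide
theorem f4_card : Nat.card F4 = 4 := by rw [Nat.card_eq_fintype_card]; rfl
instance instCharPF4 : CharP F4 2 := CharTwo.of_one_ne_zero_of_two_eq_zero one_ne_zero f4_two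

@[ext] structure V6 : Type where
  x : F4
  l : F4
  b : F4
  c : F4
  d : F4
  e : F4
  deriving DecidableEq

namespace V6

instance : Zero V6 := ⟨⟨0, 0, 0, 0, 0, 0⟩⟩
instance : Add V6 := ⟨fun u v => ⟨u.x + v.x, u.l + v.l, u.b + v.b, u.c + v.c, u.d + v.d, u.e + v.e⟩⟩
instance : Neg V6 := ⟨fun u => u⟩
instance : SMul F4 V6 := ⟨fun t u => ⟨t * u.x, t * u.l, t * u.b, t * u.c, t * u.d, t * u.e⟩⟩

@[simp] theorem zero_x : (0 : V6).x = 0 := rfl
@[simp] theorem zero_l : (0 : V6).l = 0 := rfl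
@[simp] theorem zero_b : (0 : V6).b = 0 := rfl
@[simp] theorem zero_c : (0 : V6).c = 0 := rfl
@[simp] theorem zero_d : (0 : V6).d = 0 := rfl
@[simp] theorem zero_e : (0 : V6).e = 0 := rfl
@[simp] theorem add_x (u v : V6) : (u + v).x = u.x + v.x := rfl
@[simp] theorem add_l (u v : V6) : (u + v).l = u.l + v.l := rfl
@[simp] theorem add_b (u v : V6) : (u + v).b = u.b + v.b := rfl
@[simp] theorem add_c (u v : V6) : (u + v).c = u.c + v.c := rfl
@[simp] theorem add_d (u v : V6) : (u + v).d = u.d + v.d := rfl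
@[simp] theorem add_e (u v : V6) : (u + v).e = u.e + v.e := rfl
@[simp] theorem smul_x (t : F4) (v : V6) : (t • v).x = t * v.x := rfl
@[simp] theorem smul_l (t : F4) (v : V6) : (t • v).l = t * v.l := rfl
@[simp] theorem smul_b (t : F4) (v : V6) : (t • v).b = t * v.b := rfl
@[simp] theorem smul_c (t : F4) (v : V6) : (t • v).c = t * v.c := rfl
@[simp] theorem smul_d (t : F4) (v : V6) : (t • v).d = t * v.d := rfl
@[simp] theorem smul_e (t : F4) (v : V6) : (t • v).e = t * v.e := rfl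
@[simp] theorem neg_eq (v : V6) : -v = v := rfl

instance : AddCommGroup V6 where
  add_assoc u v w := by ext <;> simp [add_assoc]
  zero_add u := by ext <;> simp
  add_zero u := by ext <;> simp
  add_comm u v := by ext <;> simp [add_comm]
  neg_add_cancel u := by ext <;> simp [f4_add_self]
  nsmul := nsmulRec
  zsmul := zsmulRec

instance : Module F4 V6 where
  one_smul u := by ext <;> simp
  mul_smul s t u := by ext <;> simp [mul_assoc]
  smul_zero t := by ext <;> simp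
  smul_add t u v := by ext <;> simp [mul_add]
  add_smul s t u := by ext <;> simp [add_mul]
  zero_smul u := by ext <;> simp

@[simp] theorem add_self (v : V6) : v + v = 0 := neg_add_cancel v
theorem sub_eq (u v : V6) : u - v = u + v := sub_eq_add_neg u v
theorem add_eq_zero {u v : V6} : u + v = 0 ↔ u = v := by rw [← sub_eq, sub_eq_zero]

def equiv : V6 ≃ F4 × F4 × F4 × F4 × F4 × F4 where
  toFun v := (v.x, v.l, v.b, v.c, v.d, v.e)
  invFun p := ⟨p.1, p.2.1, p.2.2.1, p.2.2.2.1, p.2.2.2.2.1, p.2.2.2.2.2⟩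
  left_inv _ := rfl
  right_inv _ := rfl

instance : Fintype V6 := Fintype.ofEquiv _ equiv.symm

theorem card_eq : Nat.card V6 = 4096 := by
  rw [Nat.card_congr equiv]; simp [Nat.card_eq_fintype_card, F4.card_eq]

/-- use this before `decide +kernel` -/
theorem forall_iff {p : V6 → Prop} : (∀ v, p v) ↔ ∀ x l b c d e, p ⟨x, l, b, c, d, e⟩ :=
  ⟨fun h _ _ _ _ _ _ => h _, fun h v => h v.x v.l v.b v.c v.d v.e⟩

end V6

def eR : V6 := ⟨1, 0, 0, 0, 0, 0⟩
def eF : V6 := ⟨0, 1, 0, 0, 0, 0⟩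
def eb : V6 := ⟨0, 0, 1, 0, 0, 0⟩
def ec : V6 := ⟨0, 0, 0, 1, 0, 0⟩
def ed : V6 := ⟨0, 0, 0, 0, 1, 0⟩
def ee : V6 := ⟨0, 0, 0, 0, 0, 1⟩

/-- the quadratic form -/
def Qf (v : V6) : F4 := v.x * v.l + v.b * v.e + v.c * v.d
/-- its polar form -/
def Bf (u v : V6) : F4 := u.x * v.l + u.l * v.x + u.b * v.e + u.e * v.b + u.c * v.d + u.d * v.c

theorem Qf_add (u v : V6) : Qf (u + v) = Qf u + Qf v + Bf u v := by simp [Qf, Bf]; ring
theorem Qf_smul (t : F4) (v : V6) : Qf (t • v) = t ^ 2 * Qf v := by simp [Qf]; ring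
@[simp] theorem Qf_zero : Qf 0 = 0 := by simp [Qf]
theorem Bf_comm (u v : V6) : Bf u v = Bf v u := by simp [Bf]; ring
theorem Bf_add_left (u v w : V6) : Bf (u + v) w = Bf u w + Bf v w := by simp [Bf]; ring
theorem Bf_add_right (u v w : V6) : Bf u (v + w) = Bf u v + Bf u w := by simp [Bf]; ring
theorem Bf_smul_left (t : F4) (u v : V6) : Bf (t • u) v = t * Bf u v := by simp [Bf]; ring
theorem Bf_smul_right (t : F4) (u v : V6) : Bf u (t • v) = t * Bf u v := by simp [Bf]; ring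
@[simp] theorem Bf_zero_left (v : V6) : Bf 0 v = 0 := by simp [Bf]
@[simp] theorem Bf_zero_right (v : V6) : Bf v 0 = 0 := by simp [Bf]
@[simp] theorem Bf_self (v : V6) : Bf v v = 0 := by
  simp only [Bf]; linear_combination (v.x * v.l + v.b * v.e + v.c * v.d) * f4_two
theorem Bf_eq (u v : V6) : Bf u v = Qf (u + v) + Qf u + Qf v := by
  rw [Qf_add]; linear_combination -(Qf u + Qf v) * f4_two
theorem eq_zero_of_Bf {u : V6} (h : ∀ v, Bf u v = 0) : u = 0 := by
  have h1 := h eR; have h2 := h eF; have h3 := h eb; have h4 := h ec; have h5 := h ed; have h6 := h ee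
  simp [Bf, eR, eF, eb, ec, ed, ee] at h1 h2 h3 h4 h5 h6
  ext <;> simp [*]
theorem exists_Bf {u : V6} (h : u ≠ 0) (s : F4) : ∃ v, Bf u v = s := by
  obtain ⟨v, hv⟩ : ∃ v, Bf u v ≠ 0 := by by_contra! q; exact h (eq_zero_of_Bf q)
  exact ⟨(s / Bf u v) • v, by rw [Bf_smul_right, div_mul_cancel₀ _ hv]⟩
theorem Bf_ee (v : V6) : Bf v ee = v.b := by simp [Bf, ee]
theorem Bf_eR (v : V6) : Bf v eR = v.l := by simp [Bf, eR]

/-- the action of `x_a(t)` -/
def mA (t : F4) (v : V6) : V6 :=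
  ⟨v.x, v.l, v.b, v.c + t * v.b, v.d + t ^ 2 * v.b, v.e + t ^ 3 * v.b + t ^ 2 * v.c + t * v.d⟩
/-- the action of `n_a` -/
def mN (v : V6) : V6 := ⟨v.x, v.l, v.e, v.d, v.c, v.b⟩
/-- the Siegel transformation `ρ_{e, l eF + μ eR}` -/
def mR (l μ : F4) (v : V6) : V6 :=
  ⟨v.x + v.b * μ, v.l + v.b * l, v.b, v.c, v.d, v.e + v.x * l + v.l * μ + μ * l * v.b⟩
/-- the semilinear involution -/
def fr (v : V6) : V6 := ⟨v.l ^ 2, v.x ^ 2, v.b ^ 2, v.d ^ 2, v.c ^ 2, v.e ^ 2⟩

theorem fr_add (u v : V6) : fr (u + v) = fr u + fr v := by ext <;> simp [fr, CharTwo.add_sq]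
theorem fr_smul (t : F4) (v : V6) : fr (t • v) = t ^ 2 • fr v := by ext <;> simp [fr, mul_pow]
@[simp] theorem fr_fr (v : V6) : fr (fr v) = v := by ext <;> simp [fr, ← pow_mul, f4_pow4]
@[simp] theorem fr_zero : fr 0 = 0 := by decide
theorem fr_ee : fr ee = ee := by decide
theorem Qf_fr (v : V6) : Qf (fr v) = Qf v ^ 2 := by simp [Qf, fr, CharTwo.add_sq]; ring
theorem Bf_fr (u v : V6) : Bf (fr u) (fr v) = Bf u v ^ 2 := by simp [Bf, fr, CharTwo.add_sq]; ring
theorem Qf_O6 {v : V6} (h : fr v = v) : Qf v = 0 ∨ Qf v = 1 := by rw [← f4_sq_eq, ← Qf_fr, h]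
theorem Bf_O6 {u v : V6} (h : fr u = u) (h' : fr v = v) : Bf u v = 0 ∨ Bf u v = 1 := by
  rw [← f4_sq_eq, ← Bf_fr, h, h']
/-- `V6 = O6 ⊕ ω O6` -/
theorem exists_O6 (v : V6) : ∃ u u', fr u = u ∧ fr u' = u' ∧ v = u + ω • u' := by
  refine ⟨ω ^ 2 • v + ω • fr v, v + fr v, ?_, by rw [fr_add, fr_fr, add_comm], ?_⟩
  · rw [fr_add, fr_smul, fr_smul, fr_fr, add_comm]; rfl
  · rw [smul_add, add_add_add_comm, ← add_smul, V6.add_self, add_zero]
    exact (one_smul F4 v).symm

/-- coordinates in the permutation module -/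
def sec (v : V6) : Fin 8 → F4 :=
  ![v.x + v.l, ω * v.x + ω ^ 2 * v.l, ω ^ 2 * v.x + ω * v.l, v.e, v.b + v.c + v.d + v.e,
    v.b + ω ^ 2 * v.c + ω * v.d + v.e, v.b + ω * v.c + ω ^ 2 * v.d + v.e, v.b]

def kap (y : Fin 8 → F4) : V6 :=
  ⟨y 0 + ω ^ 2 * y 1 + ω * y 2, y 0 + ω * y 1 + ω ^ 2 * y 2, y 3 + y 4 + y 5 + y 6,
    y 4 + ω * y 5 + ω ^ 2 * y 6, y 4 + ω ^ 2 * y 5 + ω * y 6, y 4 + y 5 + y 6 + y 7⟩

theorem ω_sq : ω ^ 2 = ω + 1 := by decide

theorem kap_sec (v : V6) : kap (sec v) = v := by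
  revert v; rw [V6.forall_iff]; decide +kernel

theorem kap_add (y y' : Fin 8 → F4) : kap (y + y') = kap y + kap y' := by ext <;> simp [kap] <;> ring
theorem kap_smul (t : F4) (y : Fin 8 → F4) : kap (t • y) = t • kap y := by ext <;> simp [kap] <;> ring
theorem kap_const (t : F4) : kap (fun _ => t) = 0 := by revert t; decide +kernel
theorem sec_add (u v : V6) : sec (u + v) = sec u + sec v := by
  ext i; fin_cases i <;> simp [sec] <;> ring
theorem sec_smul (t : F4) (v : V6) : sec (t • v) = t • sec v := by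
  ext i; fin_cases i <;> simp [sec] <;> ring
theorem sum_sec (v : V6) : ∑ i, sec v i = 0 := by
  revert v; rw [V6.forall_iff]; simp only [Fin.sum_univ_eight]; decide +kernel

theorem sec_kap {y : Fin 8 → F4} (h : ∑ i, y i = 0) :
    sec (kap y) = y + fun _ => y 3 + y 4 + y 5 + y 6 + y 7 := by
  rw [Fin.sum_univ_eight] at h
  have h2 := f4_two
  have h3 := ω_sq
  ext i; fin_cases i <;> simp [sec, kap] <;> grind

instance : SMul (Equiv.Perm (Fin 8)) V6 := ⟨fun σ v => kap (sec v ∘ σ.symm)⟩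

theorem al_def (σ : Equiv.Perm (Fin 8)) (v : V6) : σ • v = kap (sec v ∘ σ.symm) := rfl

theorem sec_al (σ : Equiv.Perm (Fin 8)) (v : V6) : ∃ t, sec (σ • v) = sec v ∘ σ.symm + fun _ => t :=
  ⟨_, sec_kap (by simpa using (Equiv.sum_comp σ.symm (sec v)).trans (sum_sec v))⟩

instance : DistribMulAction (Equiv.Perm (Fin 8)) V6 where
  one_smul v := kap_sec v
  mul_smul σ τ v := by
    obtain ⟨t, h⟩ := sec_al τ v
    rw [al_def σ, h]
    change _ = kap ((sec v ∘ τ.symm) ∘ σ.symm + fun _ => t)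
    rw [kap_add, kap_const, add_zero]; rfl
  smul_zero σ := by
    have : sec 0 = fun _ => 0 := by decide
    rw [al_def, this]; exact kap_const 0
  smul_add σ u v := by rw [al_def, sec_add, al_def, al_def, ← kap_add]; rfl

theorem al_smul (σ : Equiv.Perm (Fin 8)) (t : F4) (v : V6) : σ • t • v = t • σ • v := by
  rw [al_def, sec_smul, al_def, ← kap_smul]; rfl

theorem fr_kap (y : Fin 8 → F4) : fr (kap y) = kap (fun i => y i ^ 2) := by
  have h : (ω ^ 2) ^ 2 = ω := by decide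
  ext <;> simp [fr, kap, CharTwo.add_sq, mul_pow, h]

theorem sec_fr (v : V6) : sec (fr v) = fun i => sec v i ^ 2 := by
  revert v; rw [V6.forall_iff]; decide +kernel

theorem fr_al (σ : Equiv.Perm (Fin 8)) (v : V6) : fr (σ • v) = σ • fr v := by
  rw [al_def, al_def, fr_kap, sec_fr]; rfl

theorem Qf_swap : ∀ i j : Fin 8, ∀ v, Qf (Equiv.swap i j • v) = Qf v := by
  have key : ∀ i j : Fin 8, ∀ v : V6, Equiv.swap i j • v =
      v + (sec v i + sec v j) • kap (Pi.single i 1 + Pi.single j 1) := fun i j v => by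
    rw [al_def, ← kap_smul]
    nth_rw 2 [← kap_sec v]
    rw [← kap_add]; congr 1; ext k
    have h2 := f4_two
    by_cases h1 : k = i <;> by_cases h3 : k = j <;> simp_all [Equiv.swap_apply_def] <;> grind
  have h1 : ∀ i j : Fin 8, i ≠ j → Qf (kap (Pi.single i 1 + Pi.single j 1)) = 1 := by decide +kernel
  have h2 : ∀ i j : Fin 8, ∀ v : V6, Bf v (kap (Pi.single i 1 + Pi.single j 1)) = sec v i + sec v j := by
    have : ∀ i : Fin 8, ∀ v : V6, Bf v (kap (Pi.single i 1 + Pi.single 7 1)) = sec v i + sec v 7 := by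
      intro i v
      have h2 := f4_two
      have h3 := ω_sq
      fin_cases i <;> simp [Bf, kap, sec] <;> grind
    intro i j v
    have e : (Pi.single i 1 + Pi.single j 1 : Fin 8 → F4) =
        (Pi.single i 1 + Pi.single 7 1) + (Pi.single j 1 + Pi.single 7 1) := by
      ext k; simp only [Pi.add_apply]; linear_combination -(Pi.single 7 1 : Fin 8 → F4) k * f4_two
    rw [e, kap_add, Bf_add_right, this, this]; linear_combination sec v 7 * f4_two
  intro i j v
  rcases eq_or_ne i j with rfl | h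
  · rw [Equiv.swap_self]; exact congrArg Qf (one_smul (Equiv.Perm (Fin 8)) v)
  rw [key, Qf_add, Qf_smul, h1 i j h, Bf_smul_right, h2]
  linear_combination (sec v i + sec v j) ^ 2 * f4_two

theorem Qf_al (σ : Equiv.Perm (Fin 8)) (v : V6) : Qf (σ • v) = Qf v := by
  induction σ using Equiv.Perm.swap_induction_on generalizing v with
  | one => rw [one_smul]
  | swap_mul σ i j _ ih => rw [mul_smul, Qf_swap, ih]

theorem Bf_al (σ : Equiv.Perm (Fin 8)) (u v : V6) : Bf (σ • u) (σ • v) = Bf u v := by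
  rw [Bf_eq, Bf_eq, ← smul_add, Qf_al, Qf_al, Qf_al]

/-- `A₈` -/
abbrev A8 : Subgroup (Equiv.Perm (Fin 8)) := alternatingGroup (Fin 8)

theorem card_A8 : Nat.card A8 = 20160 := by
  have := two_mul_nat_card_alternatingGroup (α := Fin 8)
  rw [Nat.card_perm, Nat.card_eq_fintype_card (α := Fin 8), Fintype.card_fin] at this
  have h : Nat.factorial 8 = 40320 := by decide
  change Nat.card (alternatingGroup (Fin 8)) = _
  omega

/-- the action is faithful -/
theorem al_inj {σ : Equiv.Perm (Fin 8)} (h : ∀ v : V6, σ • v = v) : σ = 1 := by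
  have key : ∀ i j k l : Fin 8, i ≠ j → k ≠ l →
      kap (Pi.single i 1 + Pi.single j 1) = kap (Pi.single k 1 + Pi.single l 1) → k = i ∨ k = j := by
    decide +kernel
  have k2 : ∀ i j : Fin 8, i ≠ j → σ i = i ∨ σ i = j := fun i j hij => by
    refine key i j (σ i) (σ j) hij (σ.injective.ne hij) ?_
    rw [← h (kap _), al_def, sec_kap (by simp [Finset.sum_add_distrib, f4_add_self])]
    change kap ((Pi.single i 1 + Pi.single j 1 : Fin 8 → F4) ∘ σ.symm + fun _ => _) = _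
    rw [kap_add, kap_const, add_zero]; congr 1; ext k
    simp [Pi.single_apply, Equiv.symm_apply_eq]
  ext i
  obtain ⟨j, k, h1, h2, h3⟩ := (by decide : ∀ i : Fin 8, ∃ j k, i ≠ j ∧ i ≠ k ∧ j ≠ k) i
  rcases k2 i j h1 with e | e
  · simp [e]
  · rcases k2 i k h2 with e' | e'
    · simp [e']
    · exact absurd (e.symm.trans e') h3

end CL.CG
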