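import Cfsg.Agent.INV.CG.WDef

/-! # CG/Sc2a : tools for the strong closure argument for `Q = 2^{1+8}` -/

set_option autoImplicit false
open Subgroup CL.MSS CL.LX
open scoped commutatorElement

namespace CL.CG

universe u

variable {G : Type u} [Group G] {Q Q' : Subgroup G} {z : G}

namespace S2

theorem ex_not [Finite G] (A : Subgroup G) (l : List G) (h : l.length < Nat.card A) :
    ∃ x ∈ A, x ∉ l := by
  classical
  by_contra! hn
  have h1 : (A : Set G) ⊆ (l.toFinset : Set G) := fun x hx => by simpa using hn x hx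
  have h2 := Set.ncard_le_ncard h1
  rw [Set.ncard_coe_finset, ← Nat.card_coe_set_eq] at h2
  exact absurd (h2.trans (List.toFinset_card_le l)) (not_le.2 h)

theorem card_le_two [Finite G] {B J : Subgroup G}
    (h : ∀ x ∈ B, ∀ y ∈ B, x ∉ J → y ∉ J → x⁻¹ * y ∈ J) :
    Nat.card B ≤ 2 * Nat.card (B ⊓ J : Subgroup G) := by
  by_cases hB : B ≤ J
  · rw [inf_of_le_left hB]; omega
  obtain ⟨x, hx, hxJ⟩ := SetLike.not_le_iff_exists.1 hB
  have : Nat.card B ≤ Nat.card (Bool × (B ⊓ J : Subgroup G)) := by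
    refine Nat.card_le_card_of_surjective
      (fun z => if z.1 then ⟨z.2, z.2.2.1⟩ else ⟨x * z.2, B.mul_mem hx z.2.2.1⟩) fun y => ?_
    by_cases hy : (y : G) ∈ J
    · exact ⟨(true, ⟨y, y.2, hy⟩), rfl⟩
    · exact ⟨(false, ⟨x⁻¹ * y, B.mul_mem (B.inv_mem hx) y.2, h x hx y y.2 hxJ hy⟩),
        Subtype.ext (by simp)⟩
  simpa [Nat.card_prod] using this

theorem two_mul_le [Finite G] {H U : Subgroup G} (h : H < U) : 2 * Nat.card H ≤ Nat.card U := by
  obtain ⟨k, hk⟩ := card_dvd_of_le h.le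
  have h1 : Nat.card H ≠ Nat.card U := fun e => h.ne (eq_of_le_of_card_ge h.le e.ge)
  have h2 : 0 < Nat.card U := Nat.card_pos
  rw [hk] at h1 h2 ⊢
  match k, h1, h2 with
  | 0, _, h2 => simp at h2
  | 1, h1, _ => simp at h1
  | k + 2, _, _ => nlinarith

theorem zc {g w : G} (hg : g * z = z * g) (hw : w ∈ zpowers z) : Commute g w := by
  obtain ⟨k, rfl⟩ := mem_zpowers_iff.1 hw
  exact Commute.zpow_right hg k

theorem comm_iff {x y y' : G} (hx : x * z = z * x) (h : y' * y⁻¹ ∈ zpowers z) :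
    Commute x y' ↔ Commute x y := by
  have h1 := zc hx h
  constructor
  · intro h2
    simpa using (h1.inv_right.mul_right h2)
  · intro h2
    simpa using h1.mul_right h2

theorem iff_of {b x y : G} (h : Commute b (x * y)) : Commute b x ↔ Commute b y :=
  ⟨fun h1 => by simpa using h1.inv_right.mul_right h, fun h1 => by simpa using h.mul_right h1.inv_right⟩

theorem both (h : ES Q z) {b x y : G} (hb : b ∈ Q) (hx : x ∈ Q) (hy : y ∈ Q)
    (e : Commute b x ↔ Commute b y) : Commute b (x * y) := by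
  by_cases h1 : Commute b x
  · exact h1.mul_right (e.1 h1)
  · exact h.mul_comm_of_not_comm hb hx hy h1 fun h2 => h1 (e.2 h2)

theorem conj_iff {g x y : G} : Commute x (g * y * g⁻¹) ↔ Commute (g⁻¹ * x * g) y := by
  simp only [commute_iff_eq]
  constructor <;> intro h
  · calc g⁻¹ * x * g * y = g⁻¹ * (x * (g * y * g⁻¹)) * g := by group
      _ = _ := by rw [h]; group
  · calc x * (g * y * g⁻¹) = g * (g⁻¹ * x * g * y) * g⁻¹ := by group
      _ = _ := by rw [h]; group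

theorem br_iff (h : ES Q z) {g x : G} (hx : x * z = z * x) :
    (g * x * g⁻¹ = x ∨ g * x * g⁻¹ = x * z) ↔ ⁅g, x⁆ ∈ zpowers z := by
  rw [h.mem_zpowers_iff, commutatorElement_def, mul_inv_eq_one, mul_inv_eq_iff_eq_mul (a := g * x * g⁻¹),
    hx]

theorem memF (h : ES Q z) {g x : G} : x ∈ esF h g ↔ x ∈ Q ∧ ⁅g, x⁆ ∈ zpowers z :=
  and_congr_right fun hx => br_iff h (h.z_comm x hx)

theorem flip {a b : G} (h : ⁅a, b⁆ ∈ zpowers z) : ⁅b, a⁆ ∈ zpowers z := by
  rw [← commutatorElement_inv]; exact inv_mem h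

theorem brQ (h : ES Q z) {x y : G} (hx : x ∈ Q) (hy : y ∈ Q) : ⁅x, y⁆ ∈ zpowers z :=
  h.mem_zpowers_iff.2 (h.commutator_cases hx hy)

theorem br_inv {g x : G} (hg : g * z = z * g) (h : ⁅g, x⁆ ∈ zpowers z) : ⁅g⁻¹, x⁆ ∈ zpowers z := by
  have h1 := (zc hg (flip h)).eq
  have : ⁅g⁻¹, x⁆ = ⁅x, g⁆ := by
    calc ⁅g⁻¹, x⁆ = g⁻¹ * (⁅x, g⁆ * g) := by group
      _ = _ := by rw [← h1]; group
  rw [this]; exact flip h

theorem ZQ (h : ES Q z) : zpowers z ≤ Q := zpowers_le.2 h.z_mem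

theorem sqZ (h : ES Q z) {x : G} (hx : x ∈ Q) : x * x ∈ zpowers z := h.mem_zpowers_iff.2 (h.sq x hx)

theorem esF_le (h : ES Q z) (g : G) : esF h g ≤ Q := fun _ hx => hx.1

theorem z_memF (h : ES Q z) {g : G} (hg : g ∈ normalizer (Q : Set G)) : z ∈ esF h g :=
  ⟨h.z_mem, Or.inl (by rw [LX.comm_of_mem_normalizer h hg, mul_inv_cancel_right])⟩

/-- the product of two conjugates has square one iff they commute -/
theorem sq_iff (h : ES Q z) {x y : G} (hx : x ∈ Q) (hy : y ∈ Q) (e : x * x * (y * y) = 1) :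
    x * y * (x * y) = 1 ↔ Commute x y := by
  constructor
  · intro h1
    by_contra h2
    rw [h.mul_sq_of_not_comm hx hy h2, e, one_mul] at h1
    exact h.z_ne h1
  · intro h1
    rw [h1.symm.mul_mul_mul_comm, e]

theorem sq_conj (h : ES Q z) {g y : G} (hg : g * z = z * g) (hy : y ∈ Q) :
    g * y * g⁻¹ * (g * y * g⁻¹) * (y⁻¹ * y⁻¹) = 1 := by
  rw [conj_mul, (zc hg (sqZ h hy)).eq]
  group

/-- counting the orbit of `y ⟨z⟩` -/
theorem orb [Finite G] (h : ES Q z) {A D H : Subgroup G} {y : G} (hA : ∀ a ∈ A, a * z = z * a)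
    (hD : ∀ a ∈ A, ⁅a, y⁆ ∈ zpowers z → a ∈ D) (hH : ∀ a ∈ A, ⁅a, y⁆ ∈ H) (hz : z ∈ H) :
    2 * Nat.card A ≤ Nat.card (A ⊓ D : Subgroup G) * Nat.card H := by
  have h1 : Nat.card ((A ⧸ D.subgroupOf A) × Bool) ≤ Nat.card H := by
    refine Nat.card_le_card_of_injective (fun q => ⟨(if q.2 then z else 1) * ⁅(q.1.out : G), y⁆,
      mul_mem (by split_ifs; exacts [hz, one_mem _]) (hH _ q.1.out.2)⟩) ?_
    rintro ⟨q, e⟩ ⟨q', e'⟩ hq
    have h2 : (if e then z else 1) * ⁅(q.out : G), y⁆ = (if e' then z else 1) * ⁅(q'.out : G), y⁆ :=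
      congrArg Subtype.val hq
    have h3 : ∀ e : Bool, (if e then z else 1) ∈ zpowers z := fun e => by
      split_ifs; exacts [mem_zpowers z, one_mem _]
    have h4 : q = q' := by
      rw [← q.out_eq, ← q'.out_eq]
      refine QuotientGroup.eq.2 (hD _ (mul_mem (inv_mem q.out.2) q'.out.2) ?_)
      change ⁅(q.out : G)⁻¹ * (q'.out : G), y⁆ ∈ _
      have h5 := mul_mem (inv_mem (h3 e')) (h3 e)
      generalize (if e then z else 1) = w at h2 h5
      generalize (if e' then z else 1) = w' at h2 h5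
      have h6 := (zc (hA _ q.out.2) h5).eq
      generalize (q.out : G) = a at h2 h6 ⊢
      generalize (q'.out : G) = a' at h2 ⊢
      have h7 : ⁅a⁻¹ * a', y⁆ = w'⁻¹ * w := by
        calc ⁅a⁻¹ * a', y⁆ = a⁻¹ * (w'⁻¹ * (w' * ⁅a', y⁆)) * y * a * y⁻¹ := by group
          _ = a⁻¹ * (w'⁻¹ * w * a) := by rw [← h2]; group
          _ = _ := by rw [← h6]; group
      rwa [h7]
    subst h4
    have h5 := mul_right_cancel h2
    cases e <;> cases e'
    exacts [rfl, absurd h5.symm h.z_ne, absurd h5 h.z_ne, rfl]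
  have h2 := card_mul_index (D.subgroupOf A)
  rw [← inf_subgroupOf_left, Nat.card_congr (subgroupOfEquivOfLe inf_le_left).toEquiv,
    inf_subgroupOf_left] at h2
  rw [Nat.card_prod, Nat.card_eq_fintype_card (α := Bool), Fintype.card_bool] at h1
  rw [← h2]
  change (D.subgroupOf A).index * 2 ≤ _ at h1
  nlinarith

end S2

end CL.CG
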