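import Cfsg.Agent.INV.CG.WDef
import Cfsg.Agent.INV.CG.Sc2a

/-! # CG/Sc2 : the strong closure argument for `Q = 2^{1+8}`

Bars denote images mod `⟨z⟩`; `x ∈ Q` is *singular* if `x² = 1`, `x ∉ ⟨z⟩`; `F_g = esF _ g`. -/

set_option autoImplicit false
open Subgroup CL.MSS CL.LX

namespace CL.CG

universe u

variable {G : Type u} [Group G] [Finite G] {Q Q' : Subgroup G} {z : G}

/-- A subgroup of order `≥ 16` of an extraspecial 2-group has a noncentral involution. -/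
theorem es_sing (h : ES Q z) {A : Subgroup G} (hA : A ≤ Q) (hc : 16 ≤ Nat.card A) :
    ∃ v ∈ A, v * v = 1 ∧ v ≠ 1 ∧ v ≠ z := by
  by_contra! hn
  have h1 : ∀ x ∈ A, x ≠ 1 → x ≠ z → x * x = z := fun x hx h1 h2 =>
    (h.sq x (hA hx)).resolve_left fun e => h2 (hn x hx e h1)
  have h0 : ∀ x y : G, y ≠ x⁻¹ → x * y ≠ 1 := fun x y h e => h (eq_inv_of_mul_eq_one_right e)
  have h0' : ∀ x y : G, y ≠ x⁻¹ * z → x * y ≠ z := fun x y h e => h (eq_inv_mul_of_mul_eq e)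
  have h2 : ∀ x ∈ A, ∀ y ∈ A, x ≠ 1 → x ≠ z → y ≠ 1 → y ≠ z → y ≠ x⁻¹ → y ≠ x⁻¹ * z →
      x * y ≠ y * x := fun x hx y hy e1 e2 e3 e4 e5 e6 e => by
    have := h1 _ (mul_mem hx hy) (h0 x y e5) (h0' x y e6)
    rw [(show Commute y x from e.symm).mul_mul_mul_comm, h1 x hx e1 e2, h1 y hy e3 e4, h.z_sq] at this
    exact h.z_ne this.symm
  obtain ⟨a, ha, ha'⟩ := S2.ex_not A [1, z] (by simp; omega)
  obtain ⟨b, hb, hb'⟩ := S2.ex_not A [1, z, a⁻¹, a⁻¹ * z] (by simp; omega)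
  obtain ⟨c, hc, hc'⟩ := S2.ex_not A [1, z, a⁻¹, a⁻¹ * z, b⁻¹, b⁻¹ * z, (a * b)⁻¹, (a * b)⁻¹ * z]
    (by simp; omega)
  simp only [List.mem_cons, not_or, List.not_mem_nil] at ha' hb' hc'
  obtain ⟨c1, c2, c3, c4, c5, c6, c7, c8, -⟩ := hc'
  exact h2 _ (mul_mem ha hb) c hc (h0 a b hb'.2.2.1) (h0' a b hb'.2.2.2.1) c1 c2 c7 c8
    (h.mul_comm_of_not_comm (hA hc) (hA ha) (hA hb) (h2 a ha c hc ha'.1 ha'.2.1 c1 c2 c3 c4).symm
      (h2 b hb c hc hb'.1 hb'.2.1 c1 c2 c5 c6).symm).symm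

open S2 in
/-- `U_g = ⟨[Q, g], z⟩` is the centraliser in `Q` of `F_g`. -/
theorem es_perp (h : ES Q z) {g : G} (hg : g ∈ normalizer (Q : Set G)) {x : G} (hx : x ∈ Q) :
    (∀ f ∈ esF h g, f * x = x * f) ↔ ∃ y ∈ Q, x = g * y * g⁻¹ * y⁻¹ ∨ x = g * y * g⁻¹ * y⁻¹ * z := by
  have hgz := LX.comm_of_mem_normalizer h hg
  constructor
  · intro hf
    let N : Subgroup Q := (zpowers z).subgroupOf Q
    have : N.Normal := ⟨fun n hn q => by
      change (q : G) * n * (q : G)⁻¹ ∈ zpowers z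
      rwa [(zc (w := (n : G)) (h.z_comm _ q.2) hn).eq, mul_inv_cancel_right]⟩
    let _ : CommGroup (Q ⧸ N) := ⟨by
      rintro ⟨a⟩ ⟨b⟩
      refine QuotientGroup.eq.2 ?_
      change ((a : G) * b)⁻¹ * (b * a) ∈ zpowers z
      convert brQ h (inv_mem b.2) (inv_mem a.2) using 1
      group⟩
    let α : Q →* Q := ((MulAut.conj g).toMonoidHom.comp Q.subtype).codRestrict Q fun y => norm_mem hg y.2
    let δ : Q →* Q ⧸ N := (QuotientGroup.mk' N).comp α / QuotientGroup.mk' N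
    have hδ : ∀ y : Q, δ y = QuotientGroup.mk' N (α y * y⁻¹) := fun y => by
      rw [map_mul, map_inv, ← div_eq_mul_inv]; rfl
    let U : Subgroup G := (δ.range.comap (QuotientGroup.mk' N)).map Q.subtype
    have hU : ∀ y ∈ Q, g * y * g⁻¹ * y⁻¹ ∈ U := fun y hy => ⟨α ⟨y, hy⟩ * ⟨y, hy⟩⁻¹, ⟨_, hδ _⟩, rfl⟩
    have hxU : x ∈ U := by
      by_contra hn
      obtain ⟨f, hfQ, h1, h2⟩ := h.exists_centralizes_not_comm (K := U) (map_subtype_le _)
        ⟨⟨z, h.z_mem⟩, ⟨1, by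
          rw [map_one]; exact ((QuotientGroup.eq_one_iff (N := N) _).2 (mem_zpowers z)).symm⟩, rfl⟩ hx hn
      refine h2 (hf f ((memF h).2 ⟨hfQ, ?_⟩)).symm
      rw [← inv_inv g]
      refine br_inv (Commute.inv_left hgz) (h.mem_zpowers_iff.2 (h.cent _
        (mul_mem (norm_mem (inv_mem hg) hfQ) (inv_mem hfQ)) fun y hy => ?_))
      refine (both h hy (norm_mem (inv_mem hg) hfQ) (inv_mem hfQ) ?_).symm
      have h3 := iff_of (show Commute f _ from (h1 _ (hU y hy)).symm)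
      rw [conj_iff, Commute.inv_right_iff] at h3
      rw [inv_inv, Commute.inv_right_iff, Commute.symm_iff, h3, Commute.symm_iff]
    obtain ⟨x, ⟨y, e⟩, rfl⟩ := hxU
    rw [hδ] at e
    have h1 : (g * y * g⁻¹ * (y : G)⁻¹)⁻¹ * x ∈ zpowers z := (QuotientGroup.eq (s := N)).1 e
    rw [h.mem_zpowers_iff, inv_mul_eq_one, inv_mul_eq_iff_eq_mul] at h1
    exact ⟨y, y.2, h1.imp Eq.symm id⟩
  · rintro ⟨y, hy, e⟩ f hf
    obtain ⟨hfQ, h1⟩ := (memF h).1 hf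
    have h2 : Commute f (g * y * g⁻¹ * y⁻¹) := by
      refine both h hfQ (norm_mem hg hy) (inv_mem hy) ?_
      rw [conj_iff, Commute.inv_right_iff, Commute.symm_iff, Commute.symm_iff (a := f)]
      exact comm_iff (h.z_comm y hy) (by simpa [commutatorElement_def] using br_inv hgz h1)
    rcases e with rfl | rfl
    · exact h2
    · exact h2.mul_right (h.z_comm f hfQ)

namespace S2
open scoped commutatorElement

theorem perp_inv (h : ES Q z) {u x : G} (hu : u ∈ normalizer (Q : Set G)) (h2 : u * u = 1)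
    (hx : x ∈ Q ⊓ centralizer (esF h u : Set G)) : u * x * u⁻¹ = x⁻¹ := by
  have h1 : u⁻¹ = u := inv_eq_of_mul_eq_one_right h2
  have h3 : ∀ y : G, u * (u * y * u⁻¹ * y⁻¹) * u⁻¹ = (u * y * u⁻¹ * y⁻¹)⁻¹ := fun y => by
    calc _ = u * u * y * u⁻¹ * y⁻¹ * u⁻¹ := by group
      _ = y * u * y⁻¹ * u⁻¹ := by rw [h2, one_mul, h1]
      _ = _ := by group
  obtain ⟨y, hy, rfl | rfl⟩ := (es_perp h hu hx.1).1 hx.2
  · exact h3 y
  · rw [← conj_mul, h3, LX.comm_of_mem_normalizer h hu, mul_inv_cancel_right, mul_inv_rev (b := z), h.z_inv]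
    exact h.z_comm _ (inv_mem (mul_mem (norm_mem hu hy) (inv_mem hy)))

theorem perp_le (h : ES Q z) {u : G} (hu : u ∈ normalizer (Q : Set G)) (h2 : u * u = 1) :
    Q ⊓ centralizer (esF h u : Set G) ≤ esF h u := fun x hx => (memF h).2 ⟨hx.1, by
  rw [commutatorElement_def, perp_inv h hu h2 hx]
  exact sqZ h (inv_mem hx.1)⟩

theorem ab32 (h : Sq Q z) {u : G} (hu : u ∈ normalizer (Q : Set G)) (h2 : u * u = 1)
    (hc : Nat.card (esF h.toES u) = 32) : esF h.toES u ≤ Q ⊓ centralizer (esF h.toES u : Set G) := by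
  have h1 := h.toES.card_centralizer (esF_le h.toES u) (z_memF h.toES hu)
  rw [hc, h.card] at h1
  exact (eq_of_le_of_card_ge (perp_le h.toES hu h2) (by omega)).ge

theorem exists_sing (h : ES Q z) {A : Subgroup G} (hA : A ≤ Q) (hc : 16 ≤ Nat.card A) :
    ∃ v ∈ A, v * v = 1 ∧ v ∉ zpowers z := by
  obtain ⟨v, h1, h2, h3, h4⟩ := es_sing h hA hc
  exact ⟨v, h1, h2, fun e => (h.mem_zpowers_iff.1 e).elim h3 h4⟩

omit [Finite G] in
theorem cent_half (h : ES Q z) {B : Subgroup G} (hB : B ≤ Q) {j : G} (hj : j ∈ Q) :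
    ∀ x ∈ B, ∀ y ∈ B, x ∉ centralizer {j} → y ∉ centralizer {j} → x⁻¹ * y ∈ centralizer {j} := by
  intro x hx y hy h1 h2
  rw [mem_centralizer_singleton_iff] at h1 h2 ⊢
  exact (h.mul_comm_of_not_comm hj (inv_mem (hB hx)) (hB hy)
    (fun e => h1 (Commute.inv_right_iff.1 e).symm) fun e => h2 e.symm).symm

/-- the part of `Q` normalising `Q'` -/
abbrev NA (Q Q' : Subgroup G) : Subgroup G := Q ⊓ normalizer (Q' : Set G)

structure St (Q Q' : Subgroup G) (z : G) : Prop where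
  h : Sq Q z
  h' : Sq Q' z
  an : ∀ v ∈ Q, v ∈ Q' → v * v = 1 → v ∈ zpowers z

namespace St

omit [Finite G] in
theorem symm (s : St Q Q' z) : St Q' Q z := ⟨s.h', s.h, fun v h1 h2 => s.an v h2 h1⟩

variable (s : St Q Q' z) {a b a' b' : G}
include s

omit [Finite G] in
theorem singF {v : G} (hv : v ∈ NA Q Q') (h2 : v * v = 1) (h1 : v ∉ zpowers z) :
    esF s.h'.toES v ≤ NA Q' Q ∧
      (Nat.card (esF s.h'.toES v) = 32 ∨ Nat.card (esF s.h'.toES v) = 128) := by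
  refine ⟨fun x hx => ⟨hx.1, ?_⟩, s.h'.rank v hv.2 (h2 ▸ one_mem _) fun e => h1 (s.an v hv.1 e h2)⟩
  rw [s.h.mem_zpowers_iff, not_or] at h1
  exact s.h.sing v hv.1 h2 h1.1 h1.2 x (s.h'.z_comm x hx.1)
    ((br_iff s.h.toES (s.h.z_comm v hv.1)).2 (flip ((memF _).1 hx).2))

omit [Finite G] in
theorem jQ (ha : a ∈ NA Q Q') (hb : b ∈ NA Q' Q) : ⁅a, b⁆ ∈ Q := by
  simpa only [commutatorElement_def, mul_assoc] using
    Q.mul_mem ha.1 (norm_mem hb.2 (Q.inv_mem ha.1))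

omit [Finite G] in
theorem jQ' (ha : a ∈ NA Q Q') (hb : b ∈ NA Q' Q) : ⁅a, b⁆ ∈ Q' := by
  rw [← commutatorElement_inv]; exact inv_mem (s.symm.jQ hb ha)

omit [Finite G] in
theorem jnc (ha : a ∈ NA Q Q') (hb : b ∈ NA Q' Q) (hj : ⁅a, b⁆ ∉ zpowers z) : ¬ Commute a ⁅a, b⁆ := by
  intro e
  refine hj (s.an _ (s.jQ ha hb) (s.jQ' ha hb) ?_)
  have h1 : ⁅a, b⁆ = a * (b * a⁻¹ * b⁻¹) := by group
  rw [h1] at e ⊢
  rw [((iff_of e).1 (Commute.refl a)).symm.mul_mul_mul_comm, mul_eq_one_comm]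
  simpa using sq_conj s.h.toES (s.h'.z_comm b hb.1) (inv_mem ha.1)

omit [Finite G] in
theorem jJ (ha : a ∈ NA Q Q') (hb : b ∈ NA Q' Q) {x : G} (hx : x ∈ Q) (hx' : x ∈ Q') :
    Commute x ⁅a, b⁆ := by
  have h1 : ⁅a, b⁆ = a * (b * a⁻¹ * b⁻¹) := by group
  rw [h1]
  refine both s.h.toES hx ha.1 (norm_mem hb.2 (inv_mem ha.1)) ?_
  rw [conj_iff, Commute.inv_right_iff, Commute.symm_iff, Commute.symm_iff (b := a)]
  exact (comm_iff (s.h.z_comm a ha.1) (by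
    simpa [commutatorElement_def] using brQ s.h'.toES (inv_mem hb.1) hx')).symm

omit [Finite G] in
theorem jkey (ha : a ∈ NA Q Q') (hb : b ∈ NA Q' Q) (hj : ⁅a, b⁆ ∉ zpowers z) (ha' : a' ∈ NA Q Q')
    (hb' : b' ∈ NA Q' Q) (hc : Commute a' ⁅a, b⁆) : ⁅a', b'⁆ ∈ zpowers z := by
  by_contra hn
  have h1 : ∀ x ∈ Q, x ∈ Q' → x ∉ zpowers z → x * x = z := fun x h1 h2 h3 =>
    (s.h.sq x h1).resolve_left fun e => h3 (s.an x h1 h2 e)
  refine s.jnc ha' hb' hn ((comm_iff (s.h.z_comm _ ha'.1) (s.an _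
    (mul_mem (s.jQ ha' hb') (inv_mem (s.jQ ha hb))) (mul_mem (s.jQ' ha' hb') (inv_mem (s.jQ' ha hb)))
    ?_)).2 hc)
  rw [(s.jJ ha hb (s.jQ ha' hb') (s.jQ' ha' hb')).inv_right.symm.mul_mul_mul_comm, ← mul_inv_rev,
    h1 _ (s.jQ ha' hb') (s.jQ' ha' hb') hn, h1 _ (s.jQ ha hb) (s.jQ' ha hb) hj, mul_inv_cancel]

omit [Finite G] in
theorem jkey' (ha : a ∈ NA Q Q') (hb : b ∈ NA Q' Q) (hj : ⁅a, b⁆ ∉ zpowers z) (ha' : a' ∈ NA Q Q')
    (hb' : b' ∈ NA Q' Q) (hc : Commute b' ⁅a, b⁆) : ⁅a', b'⁆ ∈ zpowers z :=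
  flip (s.symm.jkey hb ha (fun e => hj (flip e)) hb' ha'
    (by rw [← commutatorElement_inv]; exact hc.inv_right))

theorem card128 (hB : 32 ≤ Nat.card (NA Q' Q)) (ha : a ∈ NA Q Q') (hb : b ∈ NA Q' Q)
    (hj : ⁅a, b⁆ ∉ zpowers z) : Nat.card (NA Q Q') = 128 := by
  have h1 := card_le_two (cent_half s.h'.toES (B := NA Q' Q) inf_le_left (s.jQ' ha hb))
  obtain ⟨u, hu, h2, h3⟩ := exists_sing s.h'.toES (A := NA Q' Q ⊓ centralizer {⁅a, b⁆})
    (inf_le_left.trans inf_le_left) (by omega)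
  obtain ⟨h4, h5⟩ := s.symm.singF hu.1 h2 h3
  have h6 : esF s.h.toES u = NA Q Q' := le_antisymm h4 fun x hx => (memF _).2 ⟨hx.1,
    flip (s.jkey' ha hb hj hx hu.1 (mem_centralizer_singleton_iff.1 hu.2))⟩
  rcases h5 with h5 | h5
  · have h7 := ab32 s.h hu.1.2 h2 h5
    rw [h6] at h7
    exact absurd ((h7 ⟨s.jQ ha hb, le_normalizer (s.jQ' ha hb)⟩).2 a ha) (s.jnc ha hb hj)
  · exact h6 ▸ h5

theorem step1 (hA : 32 ≤ Nat.card (NA Q Q')) (hB : 32 ≤ Nat.card (NA Q' Q)) (ha : a ∈ NA Q Q')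
    (hb : b ∈ NA Q' Q) : ⁅a, b⁆ ∈ zpowers z := by
  by_contra hj
  have cA := s.card128 hB ha hb hj
  have cB := s.symm.card128 hA hb ha fun e => hj (flip e)
  have hjQ := s.jQ ha hb
  have h1 : ∀ v ∈ NA Q Q', ¬ Commute v ⁅a, b⁆ → v * v = z := fun v hv hn => by
    refine (s.h.sq v hv.1).resolve_left fun e => ?_
    obtain ⟨h2, h3⟩ := s.singF hv e fun e' => hn (zc (s.h.z_comm _ hjQ) e').symm
    have h4 := card_le_two (cent_half s.h'.toES (B := NA Q' Q) inf_le_left (s.jQ' ha hb))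
    have h5 : NA Q' Q ⊓ centralizer {⁅a, b⁆} ≤ esF s.h'.toES v := fun x hx => (memF _).2 ⟨hx.1.1,
      s.jkey' ha hb hj hv hx.1 (mem_centralizer_singleton_iff.1 hx.2)⟩
    have h6 := card_le_of_le h5
    have h7 : b ∈ esF s.h'.toES v := by
      rw [eq_of_le_of_card_ge h2 (by omega)]; exact hb
    have h8 := s.jkey ha hb hj (mul_mem hv ha) hb (s.h.mul_comm_of_not_comm hjQ hv.1 ha.1
      (fun e => hn e.symm) fun e => s.jnc ha hb hj e.symm).symm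
    have h9 := mul_mem h8 (inv_mem ((memF _).1 h7).2)
    have h10 := (zc (s.h.z_comm v hv.1) h9).eq
    refine hj ?_
    convert h9 using 1
    calc ⁅a, b⁆ = v⁻¹ * (⁅v * a, b⁆ * ⁅v, b⁆⁻¹ * v) := by group
      _ = _ := by rw [← h10]; group
  have haa := h1 a ha (s.jnc ha hb hj)
  have h2 : ∀ f ∈ NA Q Q' ⊓ centralizer {⁅a, b⁆}, (f * f = 1 ↔ Commute a f) := fun f hf => by
    have h3 := h1 _ (mul_mem ha hf.1) fun e => s.jnc ha hb hj
      ((iff_of e.symm).2 (mem_centralizer_singleton_iff.1 hf.2).symm).symm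
    constructor
    · intro e
      by_contra hn
      rw [s.h.mul_sq_of_not_comm ha.1 hf.1.1 hn, haa, e, mul_one, s.h.z_sq] at h3
      exact s.h.z_ne h3.symm
    · intro e
      rwa [e.symm.mul_mul_mul_comm, haa, mul_eq_left] at h3
  have h3 : NA Q Q' ⊓ centralizer {⁅a, b⁆} ≤
      Q ⊓ centralizer ((NA Q Q' ⊓ centralizer {⁅a, b⁆} : Subgroup G) : Set G) := fun f hf =>
    ⟨hf.1.1, fun f' hf' => by
      by_contra hn
      have e1 := h2 f hf
      have e2 := h2 f' hf'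
      have e3 := h2 _ (mul_mem hf' hf)
      have e4 := s.h.z_ne
      rw [s.h.mul_sq_of_not_comm hf'.1.1 hf.1.1 hn] at e3
      rcases s.h.sq f hf.1.1 with e | e <;> rcases s.h.sq f' hf'.1.1 with e' | e' <;>
        rw [e, e'] at e3 <;> rw [e] at e1 <;> rw [e'] at e2
      · exact e4 (by simpa using e3.2 ((e2.1 rfl).mul_right (e1.1 rfl)))
      · exact e4 (e2.2 ((iff_of (e3.1 (by rw [mul_one, s.h.z_sq]))).2 (e1.1 rfl)))
      · exact e4 (e1.2 ((iff_of (e3.1 (by rw [one_mul, s.h.z_sq]))).1 (e2.1 rfl)))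
      · have := e3.2 (both s.h.toES ha.1 hf'.1.1 hf.1.1 (e2.symm.trans e1))
        rw [s.h.z_sq, one_mul] at this
        exact e4 this⟩
  have h4 := card_le_two (cent_half s.h.toES (B := NA Q Q') inf_le_left hjQ)
  have h5 := s.h.card_centralizer (A := NA Q Q' ⊓ centralizer {⁅a, b⁆}) (inf_le_left.trans inf_le_left)
    ⟨⟨s.h.z_mem, le_normalizer s.h'.z_mem⟩, mem_centralizer_singleton_iff.2 (s.h.z_comm _ hjQ).symm⟩
  have h6 := card_le_of_le h3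
  rw [s.h.card] at h5
  nlinarith

theorem eqF (hA : 32 ≤ Nat.card (NA Q Q')) (hB : 32 ≤ Nat.card (NA Q' Q)) {v : G} (hv : v ∈ NA Q Q')
    (h2 : v * v = 1) (h1 : v ∉ zpowers z) : esF s.h'.toES v = NA Q' Q :=
  le_antisymm (s.singF hv h2 h1).1 fun _ hx => (memF _).2 ⟨hx.1, s.step1 hA hB hv hx⟩

theorem exists_D (hA : 32 ≤ Nat.card (NA Q Q')) (hB : 32 ≤ Nat.card (NA Q' Q)) :
    ∃ D ≤ NA Q Q', (∀ v ∈ D, v * v = 1 → v ∈ zpowers z) ∧
      Nat.card (NA Q Q') * Nat.card (NA Q' Q) ≤ 256 * Nat.card D := by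
  obtain ⟨v, hv, h2, h1⟩ := exists_sing s.h.toES (A := NA Q Q') inf_le_left (by omega)
  have hF := s.eqF hA hB hv h2 h1
  have hc := (s.singF hv h2 h1).2
  have hU := perp_le s.h'.toES hv.2 h2
  rw [hF] at hc hU
  have hzB : z ∈ NA Q' Q := ⟨s.h'.z_mem, le_normalizer s.h.z_mem⟩
  have hcU := s.h'.card_centralizer (A := NA Q' Q) inf_le_left hzB
  rw [s.h'.card] at hcU
  set U := Q' ⊓ centralizer (NA Q' Q : Set G) with hUd
  have hab : ∀ x ∈ U, ∀ x' ∈ U, Commute x x' := fun x hx x' hx' => hx'.2 x (hU hx)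
  obtain ⟨y, hy, hyB, x₀, hx₀, hx₁⟩ : ∃ y ∈ Q', y ∉ NA Q' Q ∧ ∃ x ∈ U, ¬ (Commute y x ↔ x * x = 1) := by
    by_contra! hn
    have h3 := card_le_two (B := Q') (J := NA Q' Q) fun y hy y' hy' e e' => by
      by_contra h4
      obtain ⟨x, hx, h5, h6⟩ := s.h'.exists_centralizes_not_comm (K := NA Q' Q) inf_le_left hzB
        (mul_mem (inv_mem hy) hy') h4
      refine h6 (both s.h'.toES hx (inv_mem hy) hy' ?_).symm
      rw [Commute.inv_right_iff, Commute.symm_iff, hn y hy e x ⟨hx, h5⟩, ← hn y' hy' e' x ⟨hx, h5⟩,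
        Commute.symm_iff]
    rw [inf_of_le_right (inf_le_left : NA Q' Q ≤ Q'), s.h'.card] at h3
    change 512 ≤ 2 * Nat.card (NA Q' Q) at h3
    omega
  let H : Subgroup G :=
    { carrier := {x | x ∈ U ∧ (Commute y x ↔ x * x = 1)}
      one_mem' := ⟨one_mem _, by simp⟩
      mul_mem' := fun {x x'} hx hx' => ⟨mul_mem hx.1 hx'.1, by
        have e1 := hx.2
        have e2 := hx'.2
        have e4 := s.h.z_ne
        rw [(hab x' hx'.1 x hx.1).mul_mul_mul_comm]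
        rcases s.h'.sq x hx.1.1 with e | e <;> rcases s.h'.sq x' hx'.1.1 with e' | e' <;>
          rw [e] at e1 <;> rw [e'] at e2 <;> rw [e, e']
        · exact iff_of_true ((e1.2 rfl).mul_right (e2.2 rfl)) (one_mul 1)
        · exact iff_of_false (fun e3 => e4 (e2.1 ((iff_of e3).1 (e1.2 rfl)))) (by simpa using e4)
        · exact iff_of_false (fun e3 => e4 (e1.1 ((iff_of e3).2 (e2.2 rfl)))) (by simpa using e4)
        · exact iff_of_true (both s.h'.toES hy hx.1.1 hx'.1.1 (e1.trans e2.symm)) s.h.z_sq⟩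
      inv_mem' := fun {x} hx => ⟨inv_mem hx.1, by
        rw [Commute.inv_right_iff, ← mul_inv_rev, inv_eq_one]; exact hx.2⟩ }
  have h3 := two_mul_le (H := H) (U := U) (lt_of_le_of_ne (fun x hx => hx.1) fun e =>
    hx₁ (show x₀ ∈ H from e ▸ hx₀).2)
  let D : Subgroup G :=
    { carrier := {a | a * z = z * a ∧ ⁅a, y⁆ ∈ zpowers z}
      one_mem' := ⟨by simp, by simp⟩
      mul_mem' := fun {a a'} ha ha' => ⟨(Commute.mul_left ha.1 ha'.1 :), by
        have h4 := (zc ha.1 ha'.2).eq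
        convert mul_mem ha'.2 ha.2 using 1
        calc ⁅a * a', y⁆ = a * ⁅a', y⁆ * a⁻¹ * ⁅a, y⁆ := by group
          _ = _ := by rw [h4]; group⟩
      inv_mem' := fun {a} ha => ⟨(Commute.inv_left ha.1 :), br_inv ha.1 ha.2⟩ }
  have h4 := orb s.h.toES (A := NA Q Q') (D := D) (H := H) (y := y) (fun a ha => s.h.z_comm a ha.1)
    (fun a ha e => ⟨s.h.z_comm a ha.1, e⟩) (fun a ha => ⟨⟨Q'.mul_mem (norm_mem ha.2 hy) (Q'.inv_mem hy),
      fun f hf => (es_perp s.h'.toES ha.2 (mul_mem (norm_mem ha.2 hy) (inv_mem hy))).2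
        ⟨y, hy, Or.inl rfl⟩ f ((memF _).2 ⟨hf.1, s.step1 hA hB ha hf⟩)⟩, by
      rw [commutatorElement_def, sq_iff s.h'.toES (norm_mem ha.2 hy) (inv_mem hy)
        (sq_conj s.h'.toES (s.h.z_comm a ha.1) hy), Commute.inv_right_iff, Commute.symm_iff (b := y)]
      exact ⟨fun e => (iff_of e).2 (Commute.refl y).inv_right,
        fun e => e.mul_right (Commute.refl y).inv_right⟩⟩)
    ⟨⟨s.h'.z_mem, fun f hf => s.h'.z_comm f hf.1⟩, iff_of_true (s.h'.z_comm y hy) s.h.z_sq⟩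
  refine ⟨NA Q Q' ⊓ D, inf_le_left, fun w hw e => ?_, ?_⟩
  · by_contra hn
    exact hyB (s.eqF hA hB hw.1 e hn ▸ (memF _).2 ⟨hy, hw.2.2⟩)
  · rcases hc with e | e <;> rw [e] at hcU ⊢
    · have := Nat.mul_le_mul_left (Nat.card (NA Q Q' ⊓ D : Subgroup G)) (show Nat.card H ≤ 16 by omega)
      omega
    · have := Nat.mul_le_mul_left (Nat.card (NA Q Q' ⊓ D : Subgroup G)) (show Nat.card H ≤ 4 by omega)
      omega

theorem main (hA : 32 ≤ Nat.card (NA Q Q')) (hB : 32 ≤ Nat.card (NA Q' Q)) : False := by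
  obtain ⟨D, hD, h1, h2⟩ := s.exists_D hA hB
  have h3 : Nat.card D < 16 := by
    by_contra! hn
    obtain ⟨v, hv, e1, e2⟩ := exists_sing s.h.toES (hD.trans inf_le_left) hn
    exact e2 (h1 v hv e1)
  obtain ⟨v, hv, v2, v1⟩ := exists_sing s.h.toES (A := NA Q Q') inf_le_left (by omega)
  obtain ⟨u, hu, u2, u1⟩ := exists_sing s.h'.toES (A := NA Q' Q) inf_le_left (by omega)
  have cB := (s.singF hv v2 v1).2
  have cA := (s.symm.singF hu u2 u1).2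
  rw [s.eqF hA hB hv v2 v1] at cB
  rw [s.symm.eqF hB hA hu u2 u1] at cA
  obtain ⟨cA, cB⟩ : Nat.card (NA Q Q') = 32 ∧ Nat.card (NA Q' Q) = 32 := by
    rcases cA with e | e <;> rcases cB with e' | e' <;> rw [e, e'] at h2 <;> omega
  have h4 : ∀ u ∈ NA Q' Q, u * u = 1 → u ∉ zpowers z → ∀ x ∈ NA Q Q', u * x * u⁻¹ = x⁻¹ :=
    fun u hu u2 u1 x hx => by
      have e := s.symm.eqF hB hA hu u2 u1
      exact perp_inv s.h.toES hu.2 u2 (ab32 s.h hu.2 u2 (e ▸ cA) (e ▸ hx))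
  have h5 : ∀ x ∈ NA Q' Q, ∀ x' ∈ NA Q' Q, Commute x x' := fun x hx x' hx' => by
    have e := s.eqF hA hB hv v2 v1
    exact (ab32 s.h' hv.2 v2 (e ▸ cB) (e ▸ hx')).2 x (e ▸ hx)
  let Ω : Subgroup G :=
    { carrier := {x | x ∈ NA Q' Q ∧ x * x = 1}
      one_mem' := ⟨one_mem _, one_mul 1⟩
      mul_mem' := fun {x x'} hx hx' => ⟨mul_mem hx.1 hx'.1, by
        rw [(h5 x' hx'.1 x hx.1).mul_mul_mul_comm, hx.2, hx'.2, one_mul]⟩
      inv_mem' := fun {x} hx => ⟨inv_mem hx.1, by rw [← mul_inv_rev, hx.2, inv_one]⟩ }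
  have h6 := card_le_two (B := NA Q' Q) (J := Ω) fun x hx x' hx' e e' => ⟨mul_mem (inv_mem hx) hx', by
    rw [(h5 x' hx' _ (inv_mem hx)).mul_mul_mul_comm, ← mul_inv_rev,
      (s.h'.sq x hx.1).resolve_left fun h => e ⟨hx, h⟩,
      (s.h'.sq x' hx'.1).resolve_left fun h => e' ⟨hx', h⟩, inv_mul_cancel]⟩
  obtain ⟨w, hw, hw'⟩ := ex_not (NA Q' Q ⊓ Ω) [1, z, u⁻¹, u⁻¹ * z] (by simp only [List.length]; omega)
  simp only [List.mem_cons, not_or, List.not_mem_nil] at hw'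
  have h7 : ∀ x ∈ D, x ∈ [1, z] := fun x hx => by
    have e1 := h4 _ (mul_mem hu hw.1) (Ω.mul_mem ⟨hu, u2⟩ hw.2).2 (fun e => by
      rcases s.h.mem_zpowers_iff.1 e with e | e
      · exact hw'.2.2.1 (eq_inv_of_mul_eq_one_right e)
      · exact hw'.2.2.2.1 (eq_inv_mul_of_mul_eq e)) x (hD hx)
    have e2 := h4 w hw.1 hw.2.2 (fun e => (s.h.mem_zpowers_iff.1 e).elim hw'.1 hw'.2.1) x (hD hx)
    have e3 := h4 u hu u2 u1 _ (inv_mem (hD hx))
    have e4 : x = x⁻¹ := by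
      calc x = u * (w * x * w⁻¹) * u⁻¹ := by rw [e2, e3, inv_inv]
        _ = _ := by rw [← e1]; group
    simpa using s.h.mem_zpowers_iff.1 (h1 x hx (mul_eq_one_iff_eq_inv.2 e4))
  obtain ⟨x, hx, hx'⟩ := ex_not D [1, z] (by rw [cA, cB] at h2; simp only [List.length]; omega)
  exact hx' (h7 x hx)

end St

end S2

/-- The strong closure argument. -/
theorem sc2 (h : Sq Q z) (h' : Sq Q' z) (an : ∀ v ∈ Q, v ∈ Q' → v * v = 1 → v = 1 ∨ v = z) {u : G}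
    (hu : u ∈ Q') (hn : u ∈ normalizer (Q : Set G)) (hq : u ∉ Q)
    (hF : esF h.toES u ≤ normalizer (Q' : Set G)) : False := by
  have s : S2.St Q Q' z := ⟨h, h', fun v h1 h2 h3 => h.mem_zpowers_iff.2 (an v h1 h2 h3)⟩
  have h1 := h.rank u hn (S2.ZQ h.toES (S2.sqZ h'.toES hu)) hq
  have h2 : Nat.card (esF h.toES u) ≤ Nat.card (S2.NA Q Q') :=
    card_le_of_le (le_inf (S2.esF_le _ u) hF)
  obtain ⟨v, hv, v2, v1⟩ := S2.exists_sing h.toES (A := S2.NA Q Q') inf_le_left (by omega)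
  obtain ⟨h3, h4⟩ := s.singF hv v2 v1
  have h5 := card_le_of_le h3
  exact s.main (by omega) (by omega)

end CL.CG
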