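import Cfsg.Agent.INV.CG.Model
import Cfsg.Agent.TECH.SylIn
import Cfsg.Agent.SPOR.LX

/-!
# Interfaces for the upper half of S1767 (`G₂(4)` standard gives `Co₁`)

`Wd` : `W = 2^{2+12}` with centre `Z = {z a}`, `C(Z) ∩ N(W) = (W × O).A₈`.
`Vd` : the same picture in `C(Z) / Z`.
`Qd` : `Q = 2^{1+8}`.
-/

set_option autoImplicit false
open Subgroup CL.MSS CL.LX

namespace CL.CG

universe u

structure Wd (G : Type u) [Group G] where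
  W : Subgroup G
  O : Subgroup G
  z : F4 → G
  cl : G → V6
  z_add : ∀ a b, z (a + b) = z a * z b
  z_inj : ∀ a, z a = 1 → a = 0
  zW : ∀ a, z a ∈ W
  cl_mul : ∀ u ∈ W, ∀ v ∈ W, cl (u * v) = cl u + cl v
  cl_surj : ∀ y, ∃ u ∈ W, cl u = y
  cl_ker : ∀ u ∈ W, cl u = 0 ↔ ∃ a, u = z a
  sq : ∀ u ∈ W, u * u = z (Qf (cl u))
  act : ∀ g, (∀ a, g * z a = z a * g) → g ∈ normalizer (W : Set G) →
    ∃ σ ∈ A8, ∀ u ∈ W, cl (g * u * g⁻¹) = σ • cl u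
  real : ∀ σ ∈ A8, ∃ g, (∀ a, g * z a = z a * g) ∧ g ∈ normalizer (W : Set G) ∧
    ∀ u ∈ W, cl (g * u * g⁻¹) = σ • cl u
  ker : ∀ g, (∀ a, g * z a = z a * g) → g ∈ normalizer (W : Set G) →
    (∀ u ∈ W, cl (g * u * g⁻¹) = cl u) → ∃ u ∈ W, ∃ o ∈ O, g = u * o
  odd : Odd (Nat.card O)
  OW : ∀ o ∈ O, ∀ u ∈ W, o * u = u * o
  inv : ∃ i, (∀ a, i * z a = z a * i) ∧ i ∈ normalizer (W : Set G) ∧ i * i = 1 ∧
    ∃ u ∈ W, cl (i * u * i⁻¹) ≠ cl u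
  core : ∀ Y : Subgroup G, Odd (Nat.card Y) → (∀ y ∈ Y, y * z 1 = z 1 * y) →
    (∀ g, (∀ a, g * z a = z a * g) → g ∈ normalizer (W : Set G) → g ∈ normalizer (Y : Set G)) →
    ∀ y ∈ Y, ∀ u ∈ W, y * u = u * y
  tor : ∃ h ∈ normalizer (W : Set G), ∀ a, h * z a * h⁻¹ = z (ω * a)

structure Vd (H : Type u) [Group H] where
  V : Subgroup H
  O : Subgroup H
  v : V6 → H
  v_add : ∀ y y', v (y + y') = v y * v y'
  v_inj : ∀ y, v y = 1 → y = 0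
  memV : ∀ x, x ∈ V ↔ ∃ y, x = v y
  act : ∀ g ∈ normalizer (V : Set H), ∃ σ ∈ A8, ∀ y, g * v y * g⁻¹ = v (σ • y)
  real : ∀ σ ∈ A8, ∃ g, ∀ y, g * v y * g⁻¹ = v (σ • y)
  ker : ∀ g ∈ centralizer (V : Set H), ∃ x ∈ V, ∃ o ∈ O, g = x * o
  odd : Odd (Nat.card O)
  OV : O ≤ centralizer (V : Set H)
  inv : ∃ i ∈ normalizer (V : Set H), i * i = 1 ∧ i ∉ centralizer (V : Set H)
  core : ∀ Y : Subgroup H, Y.Normal → Odd (Nat.card Y) → Y ≤ normalizer (V : Set H)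

structure Qd (G : Type u) [Group G] where
  Q : Subgroup G
  O : Subgroup G
  X : Subgroup G
  z : G
  w : G
  es : ES Q z
  card : Nat.card Q = 512
  wQ : w ∈ Q
  ww : w * w = 1
  w1 : w ≠ 1
  wz : w ≠ z
  memX : ∀ g, g ∈ X ↔ g * z = z * g ∧ (g * w * g⁻¹ = w ∨ g * w * g⁻¹ = w * z)
  XN : X ≤ normalizer (Q : Set G)
  cardX : Nat.card X = 660602880 * Nat.card O
  syl : ∃ T, SylIn 2 T ⊤ ∧ T ≤ X
  odd : Odd (Nat.card O)
  OQ : ∀ o ∈ O, ∀ x ∈ Q, o * x = x * o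
  ker : ∀ g, (∀ x ∈ Q, g * x * g⁻¹ = x ∨ g * x * g⁻¹ = x * z) → ∃ q ∈ Q, ∃ o ∈ O, g = q * o
  mv : ∃ c ∈ normalizer (Q : Set G), c ∉ X
  e32 : ∃ E ≤ Q, Nat.card E = 32 ∧ ∀ x ∈ E, x * x = 1
  inv : ∃ i ∈ normalizer (Q : Set G), i * i = 1 ∧ i ∉ Q
  core : ∀ Y : Subgroup G, Odd (Nat.card Y) → (∀ y ∈ Y, y * z = z * y) →
    (∀ g, g * z = z * g → g ∈ normalizer (Y : Set G)) → ∀ y ∈ Y, ∀ x ∈ Q, y * x = x * y
  fus : ∃ k ∈ normalizer (O : Set G), k * z * k⁻¹ = w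

variable {G : Type u} [Group G]

/-- the preimage in `Q` of the fixed points of `g` on `Q / ⟨z⟩` -/
def esF {Q : Subgroup G} {z : G} (h : ES Q z) (g : G) : Subgroup G where
  carrier := {x | x ∈ Q ∧ (g * x * g⁻¹ = x ∨ g * x * g⁻¹ = x * z)}
  one_mem' := ⟨one_mem _, .inl (by simp)⟩
  mul_mem' := by
    rintro x y ⟨hx, h1⟩ ⟨hy, h2⟩
    refine ⟨mul_mem hx hy, ?_⟩
    have e : g * (x * y) * g⁻¹ = (g * x * g⁻¹) * (g * y * g⁻¹) := by group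
    have c := h.z_comm y hy
    rw [e]
    rcases h1 with h1 | h1 <;> rcases h2 with h2 | h2 <;> rw [h1, h2]
    · exact .inl rfl
    · exact .inr (mul_assoc _ _ _).symm
    · exact .inr (by rw [mul_assoc, ← c, mul_assoc])
    · exact .inl (by rw [mul_assoc, ← mul_assoc z, ← c, mul_assoc y, h.z_sq, mul_one])
  inv_mem' := by
    rintro x ⟨hx, h1⟩
    refine ⟨inv_mem hx, ?_⟩
    have e : g * x⁻¹ * g⁻¹ = (g * x * g⁻¹)⁻¹ := by group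
    rw [e]
    rcases h1 with h1 | h1 <;> rw [h1]
    · exact .inl rfl
    · exact .inr (by rw [mul_inv_rev, h.z_inv, h.z_comm _ (inv_mem hx)])

theorem mem_esF {Q : Subgroup G} {z : G} (h : ES Q z) {g x : G} :
    x ∈ esF h g ↔ x ∈ Q ∧ (g * x * g⁻¹ = x ∨ g * x * g⁻¹ = x * z) := Iff.rfl

/-- what the strong closure argument needs of `Q` -/
structure Sq (Q : Subgroup G) (z : G) : Prop extends ES Q z where
  card : Nat.card Q = 512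
  sing : ∀ v ∈ Q, v * v = 1 → v ≠ 1 → v ≠ z → ∀ g, g * z = z * g →
    (g * v * g⁻¹ = v ∨ g * v * g⁻¹ = v * z) → g ∈ normalizer (Q : Set G)
  rank : ∀ g ∈ normalizer (Q : Set G), g * g ∈ Q → g ∉ Q →
    Nat.card (esF toES g) = 32 ∨ Nat.card (esF toES g) = 128

/-- `N(Q) / QO = Ω₈⁺(2)` -/
structure Qd.Om (Δ : Qd G) : Prop where
  card : Nat.card (normalizer (Δ.Q : Set G)) = 89181388800 * Nat.card Δ.O
  trans : ∀ v ∈ Δ.Q, v * v = 1 → v ≠ 1 → v ≠ Δ.z → ∃ g ∈ normalizer (Δ.Q : Set G), g * Δ.w * g⁻¹ = v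
  rank : ∀ g ∈ normalizer (Δ.Q : Set G), g * g ∈ Δ.Q → g ∉ Δ.Q →
    Nat.card (esF Δ.es g) = 32 ∨ Nat.card (esF Δ.es g) = 128
  simple : ∀ L ≤ normalizer (Δ.Q : Set G), normalizer (Δ.Q : Set G) ≤ normalizer (L : Set G) →
    L ≤ Δ.Q ⊔ Δ.O ∨ normalizer (Δ.Q : Set G) ≤ L ⊔ (Δ.Q ⊔ Δ.O)

theorem mem_norm_iff [Finite G] {H : Subgroup G} {g : G} :
    g ∈ normalizer (H : Set G) ↔ ∀ x ∈ H, g * x * g⁻¹ ∈ H :=
  ⟨fun h x hx => (mem_normalizer_iff.1 h x).1 hx, fun h => mem_normalizer_fintype h⟩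

theorem norm_mem {H : Subgroup G} {g x : G} (h : g ∈ normalizer (H : Set G)) (hx : x ∈ H) :
    g * x * g⁻¹ ∈ H := (mem_normalizer_iff.1 h x).1 hx

/-- a 2-element `u * o` with `u` a 2-element commuting with `o` of odd order has `o = 1` -/
theorem odd_part {O : Subgroup G} (hO : Odd (Nat.card O)) {u o : G} (ho : o ∈ O) (c : o * u = u * o)
    {m n : ℕ} (hu : u ^ 2 ^ m = 1) (h : (u * o) ^ 2 ^ n = 1) : o = 1 := by
  refine eq_one_of_odd_of_two hO ho (k := m + n) ?_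
  have := congrArg (· ^ 2 ^ m) h
  simp only [one_pow] at this
  rwa [← pow_mul, ← pow_add, (Commute.symm c).mul_pow, pow_add, mul_comm (2 ^ n), pow_mul, hu, one_pow,
    one_mul, ← pow_add] at this

namespace Wd

variable (Λ : Wd G)

/-- `N(Z) ≤ N(W)` -/
def Nz : Prop := ∀ g, (∀ a, ∃ b, g * Λ.z a * g⁻¹ = Λ.z b) → g ∈ normalizer (Λ.W : Set G)

theorem z_zero : Λ.z 0 = 1 := by simpa using Λ.z_add 0 0
theorem z_sq (a : F4) : Λ.z a * Λ.z a = 1 := by rw [← Λ.z_add, f4_add_self, z_zero]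
theorem z_inv (a : F4) : (Λ.z a)⁻¹ = Λ.z a := inv_eq_of_mul_eq_one_right (Λ.z_sq a)
theorem z_eq {a b : F4} (h : Λ.z a = Λ.z b) : a = b := by
  have := Λ.z_inj (a + b) (by rw [Λ.z_add, h, z_sq])
  linear_combination this - f4_add_self b
theorem cl_z (a : F4) : Λ.cl (Λ.z a) = 0 := (Λ.cl_ker _ (Λ.zW a)).2 ⟨a, rfl⟩
theorem cl_one : Λ.cl 1 = 0 := by rw [← Λ.z_zero, cl_z]
theorem cl_inv {u : G} (hu : u ∈ Λ.W) : Λ.cl u⁻¹ = Λ.cl u := by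
  have := Λ.cl_mul _ (inv_mem hu) u hu
  rw [inv_mul_cancel, cl_one] at this
  exact V6.add_eq_zero.1 this.symm
theorem z_comm {u : G} (hu : u ∈ Λ.W) (a : F4) : u * Λ.z a = Λ.z a * u := by
  have h := Λ.sq _ (mul_mem hu (Λ.zW a))
  rw [Λ.cl_mul _ hu _ (Λ.zW a), cl_z, add_zero, ← Λ.sq u hu, mul_assoc, mul_right_inj] at h
  calc u * Λ.z a = Λ.z a * (Λ.z a * (u * Λ.z a)) := by rw [← mul_assoc, z_sq, one_mul]
    _ = _ := by rw [h]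
theorem cl_eq {u v : G} (hu : u ∈ Λ.W) (hv : v ∈ Λ.W) : Λ.cl u = Λ.cl v ↔ ∃ a, u = v * Λ.z a := by
  constructor
  · intro h
    obtain ⟨a, e⟩ := (Λ.cl_ker _ (mul_mem (inv_mem hv) hu)).1
      (by rw [Λ.cl_mul _ (inv_mem hv) _ hu, Λ.cl_inv hv, h, V6.add_self])
    exact ⟨a, by rw [← e]; group⟩
  · rintro ⟨a, rfl⟩; rw [Λ.cl_mul _ hv _ (Λ.zW a), cl_z, add_zero]
theorem comm {u v : G} (hu : u ∈ Λ.W) (hv : v ∈ Λ.W) :
    u * v = v * u * Λ.z (Bf (Λ.cl u) (Λ.cl v)) := by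
  have h := Λ.sq _ (mul_mem hv hu)
  rw [Λ.cl_mul _ hv _ hu, Qf_add, Λ.z_add, Λ.z_add, ← Λ.sq u hu, ← Λ.sq v hv, Bf_comm] at h
  have h2 : u * v = v * u * u * Λ.z (Bf (Λ.cl u) (Λ.cl v)) * u⁻¹ := by
    calc u * v = v⁻¹ * (v * u * (v * u)) * u⁻¹ := by group
      _ = _ := by rw [h]; group
  rw [h2, mul_assoc (v * u), Λ.z_comm hu]; group
theorem conj {u v : G} (hu : u ∈ Λ.W) (hv : v ∈ Λ.W) :
    u * v * u⁻¹ = v * Λ.z (Bf (Λ.cl u) (Λ.cl v)) := by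
  rw [Λ.comm hu hv, mul_assoc v, Λ.z_comm hu]; group
theorem comm_iff {u v : G} (hu : u ∈ Λ.W) (hv : v ∈ Λ.W) :
    u * v = v * u ↔ Bf (Λ.cl u) (Λ.cl v) = 0 := by
  rw [Λ.comm hu hv, mul_eq_left]
  exact ⟨Λ.z_inj _, fun h => by rw [h, z_zero]⟩
theorem cl_conj {u v : G} (hu : u ∈ Λ.W) (hv : v ∈ Λ.W) : Λ.cl (u * v * u⁻¹) = Λ.cl v := by
  rw [Λ.conj hu hv, Λ.cl_mul _ hv _ (Λ.zW _), cl_z, add_zero]
theorem pow_four {u : G} (hu : u ∈ Λ.W) : u ^ 2 ^ 2 = 1 := by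
  rw [show u ^ 2 ^ 2 = (u * u) * (u * u) by simp [pow_succ, mul_assoc], Λ.sq u hu, z_sq]
theorem pg : IsPGroup 2 Λ.W := fun u => ⟨2, Subtype.ext (Λ.pow_four u.2)⟩

/-- a 2-element centralising `Z` and `W / Z` lies in `W` -/
theorem mem_of_two {g : G} (h1 : ∀ a, g * Λ.z a = Λ.z a * g) (h2 : g ∈ normalizer (Λ.W : Set G))
    (h3 : ∀ u ∈ Λ.W, Λ.cl (g * u * g⁻¹) = Λ.cl u) {n : ℕ} (h : g ^ 2 ^ n = 1) : g ∈ Λ.W := by
  obtain ⟨u, hu, o, ho, rfl⟩ := Λ.ker g h1 h2 h3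
  rwa [odd_part Λ.odd ho (Λ.OW o ho u hu) (Λ.pow_four hu) h, mul_one]

/-- `O` consists of the elements of odd order centralising `W` -/
theorem mem_O {g : G} (h : ∀ u ∈ Λ.W, g * u = u * g) {n : ℕ} (hn : Odd n) (e : g ^ n = 1) : g ∈ Λ.O := by
  have h' : ∀ u ∈ Λ.W, g * u * g⁻¹ = u := fun u hu => by rw [h u hu]; group
  obtain ⟨u, hu, o, ho, rfl⟩ := Λ.ker g (fun a => h _ (Λ.zW a))
    (mem_normalizer_iff.2 fun x => ⟨fun hx => by rwa [h' x hx], fun hx => by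
      have := h' _ hx
      have e : x = g * x * g⁻¹ := by
        calc x = g⁻¹ * (g * x * g⁻¹) * g := by group
          _ = g⁻¹ * (g * (g * x * g⁻¹) * g⁻¹) * g := by rw [this]
          _ = _ := by group
      rwa [e]⟩) fun u hu => by rw [h' u hu]
  have c : Commute u o := (Λ.OW o ho u hu).symm
  have h1 : u ^ (n * Nat.card Λ.O) = 1 := by
    have := congrArg (· ^ Nat.card Λ.O) e
    simp only [one_pow] at this
    have h2 : o ^ Nat.card Λ.O = 1 := congrArg Subtype.val (pow_card_eq_one' (x := (⟨o, ho⟩ : Λ.O)))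
    rwa [← pow_mul, c.mul_pow, mul_comm n, pow_mul o, h2, one_pow, mul_one, mul_comm] at this
  have h2 : orderOf u ∣ 1 := by
    have := Nat.dvd_gcd (orderOf_dvd_of_pow_eq_one h1) (orderOf_dvd_of_pow_eq_one (Λ.pow_four hu))
    rwa [Nat.Coprime.gcd_eq_one (Nat.Coprime.pow_right 2 ((Nat.coprime_two_right).2 (hn.mul Λ.odd)))] at this
  rwa [orderOf_eq_one_iff.1 (Nat.dvd_one.1 h2), one_mul]

theorem norm_O [Finite G] {g : G} (h : g ∈ normalizer (Λ.W : Set G)) : g ∈ normalizer (Λ.O : Set G) := by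
  refine mem_norm_iff.2 fun o ho => Λ.mem_O (fun u hu => ?_) Λ.odd ?_
  · have := Λ.OW o ho _ (norm_mem (inv_mem h) hu)
    calc g * o * g⁻¹ * u = g * (o * (g⁻¹ * u * g⁻¹⁻¹)) * g⁻¹ := by group
      _ = _ := by rw [this]; group
  · have h2 : o ^ Nat.card Λ.O = 1 := congrArg Subtype.val (pow_card_eq_one' (x := (⟨o, ho⟩ : Λ.O)))
    rw [conj_pow, h2]; group

theorem card_W : Nat.card Λ.W = 16384 := by
  choose s hs hs' using Λ.cl_surj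
  have : Function.Bijective fun p : V6 × F4 => (⟨s p.1 * Λ.z p.2, mul_mem (hs _) (Λ.zW _)⟩ : Λ.W) := by
    constructor
    · rintro ⟨y, a⟩ ⟨y', a'⟩ e
      have e := congrArg Subtype.val e
      have e1 := congrArg Λ.cl e
      simp only at e e1
      rw [Λ.cl_mul _ (hs _) _ (Λ.zW _), Λ.cl_mul _ (hs _) _ (Λ.zW _), cl_z, cl_z, hs', hs', add_zero,
        add_zero] at e1
      subst e1
      rw [Λ.z_eq (mul_left_cancel e)]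
    · rintro ⟨u, hu⟩
      obtain ⟨a, e⟩ := (Λ.cl_eq hu (hs (Λ.cl u))).1 (hs' _).symm
      exact ⟨(Λ.cl u, a), Subtype.ext e.symm⟩
  rw [← Nat.card_eq_of_bijective _ this, Nat.card_prod, V6.card_eq, f4_card]

/-- `C(Z) ∩ N(W)` -/
def C : Subgroup G := centralizer (Set.range Λ.z) ⊓ normalizer (Λ.W : Set G)

theorem mem_C {g : G} : g ∈ Λ.C ↔ (∀ a, g * Λ.z a = Λ.z a * g) ∧ g ∈ normalizer (Λ.W : Set G) := by
  simp [C, mem_centralizer_iff, eq_comm]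

theorem W_le_C : Λ.W ≤ Λ.C := fun _ hu => Λ.mem_C.2 ⟨Λ.z_comm hu, le_normalizer hu⟩

theorem O_le_C : Λ.O ≤ Λ.C := fun o ho => Λ.mem_C.2 ⟨fun a => Λ.OW o ho _ (Λ.zW a),
  centralizer_le_normalizer _ fun u hu => (Λ.OW o ho u hu).symm⟩

theorem act_uniq {g : G} {σ τ : Equiv.Perm (Fin 8)} (h : ∀ u ∈ Λ.W, Λ.cl (g * u * g⁻¹) = σ • Λ.cl u)
    (h' : ∀ u ∈ Λ.W, Λ.cl (g * u * g⁻¹) = τ • Λ.cl u) : σ = τ := by
  rw [← inv_mul_eq_one]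
  refine al_inj fun y => ?_
  obtain ⟨u, hu, rfl⟩ := Λ.cl_surj y
  rw [mul_smul, ← h' u hu, h u hu, inv_smul_smul]

/-- the map `C(Z) ∩ N(W) → A₈` -/
noncomputable def π : Λ.C →* Equiv.Perm (Fin 8) :=
  MonoidHom.mk' (fun g => (Λ.act g (Λ.mem_C.1 g.2).1 (Λ.mem_C.1 g.2).2).choose) fun g h => by
    refine Λ.act_uniq (Λ.act _ (Λ.mem_C.1 (g * h).2).1 (Λ.mem_C.1 (g * h).2).2).choose_spec.2 fun u hu => ?_
    rw [mul_smul, ← (Λ.act h (Λ.mem_C.1 h.2).1 (Λ.mem_C.1 h.2).2).choose_spec.2 u hu,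
      ← (Λ.act g (Λ.mem_C.1 g.2).1 (Λ.mem_C.1 g.2).2).choose_spec.2 _ (norm_mem (Λ.mem_C.1 h.2).2 hu)]
    congr 1; simp only [coe_mul]; group

theorem π_mem (g : Λ.C) : Λ.π g ∈ A8 := (Λ.act g (Λ.mem_C.1 g.2).1 (Λ.mem_C.1 g.2).2).choose_spec.1
theorem π_spec (g : Λ.C) {u : G} (hu : u ∈ Λ.W) : Λ.cl (g * u * (g : G)⁻¹) = Λ.π g • Λ.cl u :=
  (Λ.act g (Λ.mem_C.1 g.2).1 (Λ.mem_C.1 g.2).2).choose_spec.2 u hu
theorem π_range : Λ.π.range = A8 := by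
  refine le_antisymm (by rintro _ ⟨g, rfl⟩; exact Λ.π_mem g) fun σ hσ => ?_
  obtain ⟨g, h1, h2, h3⟩ := Λ.real σ hσ
  exact ⟨⟨g, Λ.mem_C.2 ⟨h1, h2⟩⟩, Λ.act_uniq (fun u hu => Λ.π_spec _ hu) h3⟩
theorem π_eq_one {g : Λ.C} : Λ.π g = 1 ↔ ∃ u ∈ Λ.W, ∃ o ∈ Λ.O, (g : G) = u * o := by
  constructor
  · intro h
    exact Λ.ker g (Λ.mem_C.1 g.2).1 (Λ.mem_C.1 g.2).2 fun u hu => by rw [Λ.π_spec g hu, h, one_smul]
  · rintro ⟨u, hu, o, ho, e⟩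
    refine Λ.act_uniq (fun x hx => Λ.π_spec g hx) fun x hx => ?_
    rw [one_smul, e, ← Λ.cl_conj hu hx]; congr 1
    calc u * o * x * (u * o)⁻¹ = u * (o * x) * o⁻¹ * u⁻¹ := by group
      _ = _ := by rw [Λ.OW o ho x hx]; group
theorem mem_of_π {g : Λ.C} (h : Λ.π g = 1) {n : ℕ} (e : (g : G) ^ 2 ^ n = 1) : (g : G) ∈ Λ.W :=
  Λ.mem_of_two (Λ.mem_C.1 g.2).1 (Λ.mem_C.1 g.2).2 (fun u hu => by rw [Λ.π_spec g hu, h, one_smul]) e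

theorem card_C : Nat.card Λ.C = 330301440 * Nat.card Λ.O := by
  have : Function.Bijective fun p : Λ.W × Λ.O => (⟨⟨p.1 * p.2, mul_mem (Λ.W_le_C p.1.2) (Λ.O_le_C p.2.2)⟩,
      Λ.π_eq_one.2 ⟨_, p.1.2, _, p.2.2, rfl⟩⟩ : Λ.π.ker) := by
    constructor
    · rintro ⟨⟨u, hu⟩, ⟨o, ho⟩⟩ ⟨⟨u', hu'⟩, ⟨o', ho'⟩⟩ e
      have e : u * o = u' * o' := congrArg (fun x : Λ.π.ker => ((x : Λ.C) : G)) e
      have h : o * o'⁻¹ = u⁻¹ * u' := by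
        calc o * o'⁻¹ = u⁻¹ * (u * o) * o'⁻¹ := by group
          _ = _ := by rw [e]; group
      have h1 : o * o'⁻¹ = 1 := eq_one_of_odd_of_pgroup Λ.odd Λ.pg (mul_mem ho (inv_mem ho'))
        (h ▸ mul_mem (inv_mem hu) hu')
      obtain rfl := mul_inv_eq_one.1 h1
      obtain rfl := mul_right_cancel e
      rfl
    · rintro ⟨g, hg⟩
      obtain ⟨u, hu, o, ho, e⟩ := Λ.π_eq_one.1 hg
      exact ⟨(⟨u, hu⟩, ⟨o, ho⟩), Subtype.ext (Subtype.ext e.symm)⟩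
  rw [← Λ.π.ker.card_mul_index, index_ker, π_range, card_A8, ← Nat.card_eq_of_bijective _ this,
    Nat.card_prod, card_W]
  ring

/-- change of coordinates -/
def tw (σ : Equiv.Perm (Fin 8)) : Wd G where
  W := Λ.W
  O := Λ.O
  z := Λ.z
  cl u := σ • Λ.cl u
  z_add := Λ.z_add
  z_inj := Λ.z_inj
  zW := Λ.zW
  cl_mul u hu v hv := by rw [Λ.cl_mul u hu v hv, smul_add]
  cl_surj y := let ⟨u, hu, e⟩ := Λ.cl_surj (σ⁻¹ • y); ⟨u, hu, by rw [e, smul_inv_smul]⟩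
  cl_ker u hu := by rw [smul_eq_zero_iff_eq, Λ.cl_ker u hu]
  sq u hu := by rw [Qf_al, Λ.sq u hu]
  act g h1 h2 := let ⟨τ, hτ, e⟩ := Λ.act g h1 h2
    ⟨σ * τ * σ⁻¹, (inferInstance : A8.Normal).conj_mem τ hτ σ, fun u hu => by
      rw [e u hu, mul_smul, mul_smul, inv_smul_smul]⟩
  real τ hτ := let ⟨g, h1, h2, e⟩ := Λ.real _ ((inferInstance : A8.Normal).conj_mem τ hτ σ⁻¹)
    ⟨g, h1, h2, fun u hu => by rw [e u hu, mul_smul, mul_smul, smul_inv_smul, inv_inv]⟩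
  ker g h1 h2 h3 := Λ.ker g h1 h2 fun u hu => smul_left_cancel σ (h3 u hu)
  odd := Λ.odd
  OW := Λ.OW
  inv := let ⟨i, h1, h2, h3, u, hu, h4⟩ := Λ.inv; ⟨i, h1, h2, h3, u, hu, fun e => h4 (smul_left_cancel σ e)⟩
  core := Λ.core
  tor := Λ.tor

theorem cjn {c g : G} {H : Subgroup G} :
    g ∈ normalizer ((c •ᶜ H : Subgroup G) : Set G) ↔ c⁻¹ * g * c ∈ normalizer (H : Set G) := by
  rw [← cj_normalizer, mem_cj]

theorem cjc {c g x : G} : g * (c * x * c⁻¹) = c * x * c⁻¹ * g ↔ c⁻¹ * g * c * x = x * (c⁻¹ * g * c) := by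
  constructor <;> intro h
  · calc c⁻¹ * g * c * x = c⁻¹ * (g * (c * x * c⁻¹)) * c := by group
      _ = _ := by rw [h]; group
  · calc g * (c * x * c⁻¹) = c * (c⁻¹ * g * c * x) * c⁻¹ := by group
      _ = _ := by rw [h]; group

/-- conjugation -/
def cj (c : G) : Wd G where
  W := c •ᶜ Λ.W
  O := c •ᶜ Λ.O
  z a := c * Λ.z a * c⁻¹
  cl u := Λ.cl (c⁻¹ * u * c)
  z_add a b := by rw [Λ.z_add]; group
  z_inj a h := Λ.z_inj a (by simpa using h)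
  zW a := conj_mem_cj (Λ.zW a)
  cl_mul u hu v hv := by rw [← Λ.cl_mul _ (mem_cj.1 hu) _ (mem_cj.1 hv)]; congr 1; group
  cl_surj y := let ⟨u, hu, e⟩ := Λ.cl_surj y; ⟨_, conj_mem_cj hu, by rw [← e]; congr 1; group⟩
  cl_ker u hu := by
    rw [Λ.cl_ker _ (mem_cj.1 hu)]
    exact exists_congr fun a => ⟨fun h => by rw [← h]; group, fun h => by rw [h]; group⟩
  sq u hu := by rw [← Λ.sq _ (mem_cj.1 hu)]; group
  act g h1 h2 := let ⟨σ, hσ, e⟩ := Λ.act _ (fun a => cjc.1 (h1 a)) (cjn.1 h2)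
    ⟨σ, hσ, fun u hu => by rw [← e _ (mem_cj.1 hu)]; congr 1; group⟩
  real σ hσ := let ⟨g, h1, h2, e⟩ := Λ.real σ hσ
    ⟨c * g * c⁻¹, fun a => cjc.2 (by simpa [mul_assoc] using h1 a), cjn.2 (by simpa [mul_assoc] using h2),
      fun u hu => by rw [← e _ (mem_cj.1 hu)]; congr 1; group⟩
  ker g h1 h2 h3 := by
    obtain ⟨u, hu, o, ho, e⟩ := Λ.ker _ (fun a => cjc.1 (h1 a)) (cjn.1 h2) fun u hu => by
      have := h3 _ (conj_mem_cj hu)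
      convert this using 2 <;> group
    refine ⟨_, conj_mem_cj hu, _, conj_mem_cj ho, ?_⟩
    calc g = c * (c⁻¹ * g * c) * c⁻¹ := by group
      _ = _ := by rw [e]; group
  odd := by rw [card_cj]; exact Λ.odd
  OW o ho u hu := by
    obtain ⟨u, hu', rfl⟩ := mem_cj'.1 hu
    exact cjc.2 (Λ.OW _ (mem_cj.1 ho) u hu')
  inv := let ⟨i, h1, h2, h3, u, hu, h4⟩ := Λ.inv
    ⟨c * i * c⁻¹, fun a => cjc.2 (by simpa [mul_assoc] using h1 a), cjn.2 (by simpa [mul_assoc] using h2),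
      by rw [conj_mul, h3]; group, _, conj_mem_cj hu, by convert h4 using 2 <;> group⟩
  core Y h1 h2 h3 y hy u hu := by
    obtain ⟨u, hu', rfl⟩ := mem_cj'.1 hu
    refine cjc.2 (Λ.core (c⁻¹ •ᶜ Y) (by rwa [card_cj]) (fun y hy => ?_) (fun g g1 g2 => ?_) _
      (by simpa using conj_mem_cj (g := c⁻¹) hy) u hu')
    · obtain ⟨y, hy', rfl⟩ := mem_cj'.1 hy
      simpa using cjc.1 (h2 y hy')
    · refine cjn.2 (h3 _ (fun a => cjc.2 ?_) (cjn.2 ?_))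
      · simpa [mul_assoc] using g1 a
      · simpa [mul_assoc] using g2
  tor := let ⟨h, h1, h2⟩ := Λ.tor
    ⟨c * h * c⁻¹, cjn.2 (by simpa [mul_assoc] using h1), fun a => by rw [← h2]; group⟩

theorem Nz.tw {Λ : Wd G} (h : Λ.Nz) (σ : Equiv.Perm (Fin 8)) : (Λ.tw σ).Nz := h

theorem Nz.cj {Λ : Wd G} (h : Λ.Nz) (c : G) : (Λ.cj c).Nz := fun g hg => cjn.2 (h _ fun a =>
  let ⟨b, e⟩ := hg a
  ⟨b, by
    change g * (c * Λ.z a * c⁻¹) * g⁻¹ = c * Λ.z b * c⁻¹ at e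
    calc _ = c⁻¹ * (g * (c * Λ.z a * c⁻¹) * g⁻¹) * c := by group
      _ = _ := by rw [e]; group⟩)

/-- `u ∈ Q₀`, the preimage of `O6` -/
def In0 (u : G) : Prop := u ∈ Λ.W ∧ fr (Λ.cl u) = Λ.cl u

/-- two groups `W`, `W'` with `Z ∩ Z' = ⟨z 1⟩` and `Z' ≤ W` -/
structure Pr (Λ Λ' : Wd G) : Prop where
  nz : Λ.Nz
  nz' : Λ'.Nz
  z1 : Λ'.z 1 = Λ.z 1
  mem : Λ'.z ω ∈ Λ.W
  cl : ∃ t : F4, t ≠ 0 ∧ Λ.cl (Λ'.z ω) = t • ee

/-- the element `q` with `Q = Q₀ ⟨q⟩` -/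
structure Qs (q : G) : Prop where
  z1 : q * Λ.z 1 = Λ.z 1 * q
  zω : q * Λ.z ω * q⁻¹ = Λ.z ω * Λ.z 1
  sq : q * q = 1 ∨ q * q = Λ.z 1
  triv : ∀ y, Λ.In0 y → q * y * q⁻¹ = y ∨ q * y * q⁻¹ = y * Λ.z 1
  cO : ∀ o ∈ Λ.O, o * q = q * o

end Wd

namespace Vd

variable (Λ : Vd G)

theorem v_mem (y : V6) : Λ.v y ∈ Λ.V := (Λ.memV _).2 ⟨y, rfl⟩
theorem v_zero : Λ.v 0 = 1 := by simpa using Λ.v_add 0 0
theorem v_sq (y : V6) : Λ.v y * Λ.v y = 1 := by rw [← Λ.v_add, V6.add_self, v_zero]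
theorem v_eq {y y' : V6} (h : Λ.v y = Λ.v y') : y = y' :=
  V6.add_eq_zero.1 (Λ.v_inj _ (by rw [Λ.v_add, h, v_sq]))
theorem el {x : G} (hx : x ∈ Λ.V) : x * x = 1 := by obtain ⟨y, rfl⟩ := (Λ.memV x).1 hx; exact Λ.v_sq y
theorem card_V : Nat.card Λ.V = 4096 := by
  rw [← V6.card_eq]
  refine (Nat.card_eq_of_bijective (fun y => (⟨Λ.v y, Λ.v_mem y⟩ : Λ.V))
    ⟨fun y y' e => Λ.v_eq (congrArg Subtype.val e), fun x => ?_⟩).symm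
  obtain ⟨y, e⟩ := (Λ.memV x).1 x.2
  exact ⟨y, Subtype.ext e.symm⟩

theorem act_uniq {g : G} {σ τ : Equiv.Perm (Fin 8)} (h : ∀ y, g * Λ.v y * g⁻¹ = Λ.v (σ • y))
    (h' : ∀ y, g * Λ.v y * g⁻¹ = Λ.v (τ • y)) : σ = τ := by
  rw [← inv_mul_eq_one]
  refine al_inj fun y => ?_
  rw [mul_smul, Λ.v_eq ((h' y).symm.trans (h y)), inv_smul_smul]

/-- the map `N(V) → A₈` -/
noncomputable def π : normalizer (Λ.V : Set G) →* Equiv.Perm (Fin 8) :=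
  MonoidHom.mk' (fun g => (Λ.act g g.2).choose) fun g h => by
    refine Λ.act_uniq (Λ.act _ (g * h).2).choose_spec.2 fun y => ?_
    rw [mul_smul, ← (Λ.act g g.2).choose_spec.2, ← (Λ.act h h.2).choose_spec.2]
    simp only [coe_mul]; group

theorem π_mem (g : normalizer (Λ.V : Set G)) : Λ.π g ∈ A8 := (Λ.act g g.2).choose_spec.1
theorem π_spec (g : normalizer (Λ.V : Set G)) (y : V6) : g * Λ.v y * (g : G)⁻¹ = Λ.v (Λ.π g • y) :=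
  (Λ.act g g.2).choose_spec.2 y
theorem π_range [Finite G] : Λ.π.range = A8 := by
  refine le_antisymm (by rintro _ ⟨g, rfl⟩; exact Λ.π_mem g) fun σ hσ => ?_
  obtain ⟨g, h⟩ := Λ.real σ hσ
  refine ⟨⟨g, mem_norm_iff.2 fun x hx => ?_⟩, Λ.act_uniq (Λ.π_spec _) h⟩
  obtain ⟨y, rfl⟩ := (Λ.memV x).1 hx
  rw [h]; exact Λ.v_mem _
theorem π_eq_one {g : normalizer (Λ.V : Set G)} : Λ.π g = 1 ↔ (g : G) ∈ centralizer (Λ.V : Set G) := by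
  constructor
  · intro h x hx
    obtain ⟨y, rfl⟩ := (Λ.memV x).1 hx
    have := Λ.π_spec g y
    rw [h, one_smul, mul_inv_eq_iff_eq_mul] at this
    exact this.symm
  · intro h
    exact Λ.act_uniq (Λ.π_spec g) fun y => by rw [one_smul, ← h _ (Λ.v_mem y)]; group
theorem mem_of_two {g : G} (h : g ∈ centralizer (Λ.V : Set G)) {n : ℕ} (e : g ^ 2 ^ n = 1) : g ∈ Λ.V := by
  obtain ⟨x, hx, o, ho, rfl⟩ := Λ.ker g h
  rwa [odd_part Λ.odd ho (Λ.OV ho x hx).symm (m := 1) (by simpa [pow_two] using Λ.el hx) e, mul_one]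

/-- conjugation -/
def cj (c : G) : Vd G where
  V := c •ᶜ Λ.V
  O := c •ᶜ Λ.O
  v y := c * Λ.v y * c⁻¹
  v_add a b := by rw [Λ.v_add]; group
  v_inj a h := Λ.v_inj a (by simpa using h)
  memV x := by
    rw [mem_cj, Λ.memV]
    exact exists_congr fun a => ⟨fun h => by rw [← h]; group, fun h => by rw [h]; group⟩
  act g h := let ⟨σ, hσ, e⟩ := Λ.act _ (Wd.cjn.1 h)
    ⟨σ, hσ, fun y => by rw [← e]; group⟩
  real σ hσ := let ⟨g, e⟩ := Λ.real σ hσ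
    ⟨c * g * c⁻¹, fun y => by rw [← e]; group⟩
  ker g h := by
    rw [← cj_centralizer, mem_cj] at h
    obtain ⟨u, hu, o, ho, e⟩ := Λ.ker _ h
    refine ⟨_, conj_mem_cj hu, _, conj_mem_cj ho, ?_⟩
    calc g = c * (c⁻¹ * g * c) * c⁻¹ := by group
      _ = _ := by rw [e]; group
  odd := by rw [card_cj]; exact Λ.odd
  OV := by rw [← cj_centralizer]; exact cj_mono c Λ.OV
  inv := let ⟨i, h1, h2, h3⟩ := Λ.inv
    ⟨c * i * c⁻¹, Wd.cjn.2 (by simpa [mul_assoc] using h1), by rw [conj_mul, h2]; group,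
      by rwa [← cj_centralizer, conj_mem_cj_iff]⟩
  core Y h1 h2 := by rw [← cj_normalizer, ← cj_eq_of_normal c Y]; exact cj_mono c (Λ.core Y h1 h2)

end Vd

end CL.CG
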